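import Cfsg.Agent.H779.G2.Stmts

/-!
# S5211: the torus, field and graph automorphisms of `GU K`, the Weyl elements on `Q_a`, `Q_b`; (GRP) (helper650)
-/

set_option autoImplicit false
set_option linter.unusedSimpArgs false

namespace Cfsg.Agent.H650.GA

open Cfsg.Agent.H779.G2

universe u

variable {K : Type u} [Field K]

/-! ### torus and field automorphisms -/

/-- the automorphism `IsTor s t τ` -/
def torE (s t : K) (τ : K ≃+* K) (hs : s ≠ 0) (ht : t ≠ 0) : MulAut (GU K) where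
  toFun g := ⟨s * τ g.a, t * τ g.b, s * t * τ g.c, s ^ 2 * t * τ g.d, s ^ 3 * t * τ g.e, s ^ 3 * t ^ 2 * τ g.f⟩
  invFun g := ⟨τ.symm (s⁻¹ * g.a), τ.symm (t⁻¹ * g.b), τ.symm ((s * t)⁻¹ * g.c), τ.symm ((s ^ 2 * t)⁻¹ * g.d),
    τ.symm ((s ^ 3 * t)⁻¹ * g.e), τ.symm ((s ^ 3 * t ^ 2)⁻¹ * g.f)⟩
  left_inv g := by
    have h1 : s * t ≠ 0 := mul_ne_zero hs ht
    have h2 : s ^ 2 * t ≠ 0 := mul_ne_zero (pow_ne_zero _ hs) ht
    have h3 : s ^ 3 * t ≠ 0 := mul_ne_zero (pow_ne_zero _ hs) ht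
    have h4 : s ^ 3 * t ^ 2 ≠ 0 := mul_ne_zero (pow_ne_zero _ hs) (pow_ne_zero _ ht)
    ext
    · simp only [inv_mul_cancel_left₀ hs, RingEquiv.symm_apply_apply]
    · simp only [inv_mul_cancel_left₀ ht, RingEquiv.symm_apply_apply]
    · simp only [inv_mul_cancel_left₀ h1, RingEquiv.symm_apply_apply]
    · simp only [inv_mul_cancel_left₀ h2, RingEquiv.symm_apply_apply]
    · simp only [inv_mul_cancel_left₀ h3, RingEquiv.symm_apply_apply]
    · simp only [inv_mul_cancel_left₀ h4, RingEquiv.symm_apply_apply]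
  right_inv g := by
    have h1 : s * t ≠ 0 := mul_ne_zero hs ht
    have h2 : s ^ 2 * t ≠ 0 := mul_ne_zero (pow_ne_zero _ hs) ht
    have h3 : s ^ 3 * t ≠ 0 := mul_ne_zero (pow_ne_zero _ hs) ht
    have h4 : s ^ 3 * t ^ 2 ≠ 0 := mul_ne_zero (pow_ne_zero _ hs) (pow_ne_zero _ ht)
    ext
    · simp only [RingEquiv.apply_symm_apply, mul_inv_cancel_left₀ hs]
    · simp only [RingEquiv.apply_symm_apply, mul_inv_cancel_left₀ ht]
    · simp only [RingEquiv.apply_symm_apply, mul_inv_cancel_left₀ h1]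
    · simp only [RingEquiv.apply_symm_apply, mul_inv_cancel_left₀ h2]
    · simp only [RingEquiv.apply_symm_apply, mul_inv_cancel_left₀ h3]
    · simp only [RingEquiv.apply_symm_apply, mul_inv_cancel_left₀ h4]
  map_mul' x y := by
    have h2 : τ 2 = 2 := map_ofNat τ 2
    have h3 : τ 3 = 3 := map_ofNat τ 3
    have h6 : τ 6 = 6 := map_ofNat τ 6
    ext
    · simp only [GU.mul_a, map_add]; ring
    · simp only [GU.mul_b, map_add]; ring
    · simp only [GU.mul_c, map_add, map_mul]; ring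
    · simp only [GU.mul_d, map_add, map_mul, map_pow, h2]; ring
    · simp only [GU.mul_e, map_add, map_mul, map_pow, h3]; ring
    · simp only [GU.mul_f, map_add, map_sub, map_mul, map_pow, h3, h6]; ring

theorem isTor_torE {s t : K} (τ : K ≃+* K) (hs : s ≠ 0) (ht : t ≠ 0) : IsTor (torE s t τ hs ht) s t τ :=
  ⟨hs, ht, fun _ => rfl, fun _ => rfl, fun _ => rfl, fun _ => rfl, fun _ => rfl, fun _ => rfl⟩

theorem exists_isTor (s t : K) (τ : K ≃+* K) (hs : s ≠ 0) (ht : t ≠ 0) : ∃ α, IsTor α s t τ :=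
  ⟨_, isTor_torE τ hs ht⟩

theorem torUniq {α β : MulAut (GU K)} {s t : K} {τ : K ≃+* K} (h : IsTor α s t τ) (k : IsTor β s t τ) : α = β := by
  ext g
  · rw [h.a, k.a]
  · rw [h.b, k.b]
  · rw [h.c, k.c]
  · rw [h.d, k.d]
  · rw [h.e, k.e]
  · rw [h.f, k.f]

theorem isTor_one : IsTor (1 : MulAut (GU K)) 1 1 (RingEquiv.refl K) := by
  refine ⟨one_ne_zero, one_ne_zero, fun g => ?_, fun g => ?_, fun g => ?_, fun g => ?_, fun g => ?_, fun g => ?_⟩ <;>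
  · rw [MulAut.one_apply, RingEquiv.refl_apply]; ring

theorem torMul {α β : MulAut (GU K)} {s t s' t' : K} {τ τ' : K ≃+* K} (h : IsTor α s t τ) (k : IsTor β s' t' τ') :
    IsTor (α * β) (s * τ s') (t * τ t') (τ'.trans τ) := by
  refine ⟨mul_ne_zero h.ne1 ((map_ne_zero τ).2 k.ne1), mul_ne_zero h.ne2 ((map_ne_zero τ).2 k.ne2), fun g => ?_,
    fun g => ?_, fun g => ?_, fun g => ?_, fun g => ?_, fun g => ?_⟩
  · rw [MulAut.mul_apply, h.a, k.a, RingEquiv.trans_apply]; simp only [map_mul]; ring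
  · rw [MulAut.mul_apply, h.b, k.b, RingEquiv.trans_apply]; simp only [map_mul]; ring
  · rw [MulAut.mul_apply, h.c, k.c, RingEquiv.trans_apply]; simp only [map_mul]; ring
  · rw [MulAut.mul_apply, h.d, k.d, RingEquiv.trans_apply]; simp only [map_mul, map_pow]; ring
  · rw [MulAut.mul_apply, h.e, k.e, RingEquiv.trans_apply]; simp only [map_mul, map_pow]; ring
  · rw [MulAut.mul_apply, h.f, k.f, RingEquiv.trans_apply]; simp only [map_mul, map_pow]; ring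

theorem torInv {α : MulAut (GU K)} {s t : K} {τ : K ≃+* K} (h : IsTor α s t τ) :
    IsTor α⁻¹ (τ.symm s⁻¹) (τ.symm t⁻¹) τ.symm := by
  have h1 : τ.symm s⁻¹ ≠ 0 := (map_ne_zero τ.symm).2 (inv_ne_zero h.ne1)
  have h2 : τ.symm t⁻¹ ≠ 0 := (map_ne_zero τ.symm).2 (inv_ne_zero h.ne2)
  have k := isTor_torE τ.symm h1 h2
  have h3 : α * torE _ _ τ.symm h1 h2 = 1 := by
    apply torUniq (s := 1) (t := 1) (τ := RingEquiv.refl K) _ isTor_one
    have := torMul h k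
    rw [τ.apply_symm_apply, τ.apply_symm_apply, mul_inv_cancel₀ h.ne1, mul_inv_cancel₀ h.ne2] at this
    have e : τ.symm.trans τ = RingEquiv.refl K := by ext x; simp
    rwa [e] at this
  rw [inv_eq_of_mul_eq_one_right h3]
  exact k

/-! ### the graph automorphism -/

/-- the graph endomorphism in characteristic `3` -/
def grHom (h3 : (3 : K) = 0) : GU K →* GU K where
  toFun g := ⟨g.b, g.a ^ 3, g.a ^ 3 * g.b - g.e, g.a ^ 3 * g.b ^ 2 - g.f, g.a ^ 3 * g.b ^ 3 - g.c ^ 3,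
    g.a ^ 6 * g.b ^ 3 - g.d ^ 3⟩
  map_one' := by ext <;> simp
  map_mul' x y := by
    ext
    · rfl
    · simp only [GU.mul_a, GU.mul_b]
      linear_combination (x.a*y.a^2 + x.a^2*y.a) * h3
    · simp only [GU.mul_a, GU.mul_b, GU.mul_c, GU.mul_e]
      linear_combination (x.a*x.b*y.a^2 + x.a*y.a^2*y.b + x.a^2*x.b*y.a + x.a^2*y.a*y.b - x.c*y.a^2 - x.d*y.a) * h3
    · simp only [GU.mul_a, GU.mul_b, GU.mul_c, GU.mul_d, GU.mul_f]
      linear_combination (2*x.a*x.b*y.a^2*y.b + x.a*x.b^2*y.a^2 + x.a*y.a^2*y.b^2 + 2*x.a^2*x.b*y.a*y.b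
        + x.a^2*x.b^2*y.a + x.a^2*y.a*y.b^2 - x.b*x.c*y.a^2 - x.b*y.a^2*y.c + x.b*y.a^3*y.b
        - 2*x.c*y.a*y.c + x.c*y.a^2*y.b - x.c^2*y.a + x.d*y.a*y.b - x.d*y.c + x.e*y.b) * h3
    · simp only [GU.mul_a, GU.mul_b, GU.mul_c, GU.mul_d, GU.mul_e]
      linear_combination (3*x.a*x.b*y.a^2*y.b^2 + 3*x.a*x.b^2*y.a^2*y.b + x.a*x.b^3*y.a^2 + x.a*y.a^2*y.b^3
        + 3*x.a^2*x.b*y.a*y.b^2 + 3*x.a^2*x.b^2*y.a*y.b + x.a^2*x.b^3*y.a + x.a^2*y.a*y.b^3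
        - 2*x.b*x.c*y.a*y.c - x.b*x.c^2*y.a - x.b*y.a*y.c^2 + x.b*y.a^3*y.b^2 - x.b^2*x.c*y.a^2
        - x.b^2*y.a^2*y.c + x.b^2*y.a^3*y.b - x.c*y.c^2 - x.c^2*y.c + x.e*y.b^2 + x.f*y.b) * h3
    · simp only [GU.mul_a, GU.mul_b, GU.mul_c, GU.mul_d, GU.mul_e, GU.mul_f]
      linear_combination (6*x.a*x.b*y.a^5*y.b^2 + 6*x.a*x.b^2*y.a^5*y.b + 2*x.a*x.b^3*y.a^5 + 2*x.a*y.a^5*y.b^3
        + 15*x.a^2*x.b*y.a^4*y.b^2 + 15*x.a^2*x.b^2*y.a^4*y.b + 5*x.a^2*x.b^3*y.a^4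
        + 5*x.a^2*y.a^4*y.b^3 + 2*x.a^3*x.b*x.e*y.b + 19*x.a^3*x.b*y.a^3*y.b^2 + 2*x.a^3*x.b*y.b*y.e
        + 20*x.a^3*x.b^2*y.a^3*y.b + x.a^3*x.b^2*y.e + 7*x.a^3*x.b^3*y.a^3 + x.a^3*x.e*y.b^2
        + 6*x.a^3*y.a^3*y.b^3 + x.a^3*y.b^2*y.e + 15*x.a^4*x.b*y.a^2*y.b^2
        + 15*x.a^4*x.b^2*y.a^2*y.b + 5*x.a^4*x.b^3*y.a^2 + 5*x.a^4*y.a^2*y.b^3
        + 6*x.a^5*x.b*y.a*y.b^2 + 6*x.a^5*x.b^2*y.a*y.b + 2*x.a^5*x.b^3*y.a + 2*x.a^5*y.a*y.b^3
        - 4*x.b*x.c*x.d*y.a^3 - 4*x.b*x.c*y.a^3*y.d - 4*x.b*x.c^2*y.a^4 - 2*x.b*x.d*y.a^2*y.d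
        - x.b*x.d^2*y.a^2 - x.b*y.a^2*y.d^2 + x.b*y.a^6*y.b^2 - 2*x.b^2*x.c*y.a^5 - x.b^2*x.d*y.a^4
        - x.b^2*y.a^4*y.d + x.b^2*y.a^6*y.b - 4*x.c*x.d*y.a*y.d - 2*x.c*x.d^2*y.a - 2*x.c*y.a*y.d^2
        - 4*x.c^2*x.d*y.a^2 - 4*x.c^2*y.a^2*y.d - 3*x.c^3*y.a^3 - x.d*y.d^2 - x.d^2*y.d
        + x.e*y.a^3*y.b^2 - 2*x.e*y.b*y.e - x.e^2*y.b - x.f*y.e) * h3

theorem grHom_injective (h3 : (3 : K) = 0) : Function.Injective (grHom (K := K) h3) := by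
  rw [injective_iff_map_eq_one]
  intro g hg
  have h1 : g.b = 0 := congrArg GU.a hg
  have h2 : g.a ^ 3 = 0 := congrArg GU.b hg
  have ha : g.a = 0 := by simpa using h2
  have h4 : g.a ^ 3 * g.b - g.e = 0 := congrArg GU.c hg
  have h5 : g.a ^ 3 * g.b ^ 2 - g.f = 0 := congrArg GU.d hg
  have h6 : g.a ^ 3 * g.b ^ 3 - g.c ^ 3 = 0 := congrArg GU.e hg
  have h7 : g.a ^ 6 * g.b ^ 3 - g.d ^ 3 = 0 := congrArg GU.f hg
  rw [h1] at h4 h5 h6 h7
  have he : g.e = 0 := by simpa using h4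
  have hf : g.f = 0 := by simpa using h5
  have hc : g.c = 0 := by simpa using h6
  have hd : g.d = 0 := by simpa using h7
  ext
  · exact ha
  · exact h1
  · exact hc
  · exact hd
  · exact he
  · exact hf

/-- the graph automorphism in characteristic `3` -/
noncomputable def grE [Finite K] (h3 : (3 : K) = 0) : MulAut (GU K) :=
  MulEquiv.ofBijective (grHom h3) ((Finite.injective_iff_bijective).1 (grHom_injective h3))

theorem isGr_grE [Finite K] (h3 : (3 : K) = 0) : IsGr (grE h3) :=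
  ⟨h3, fun _ => rfl, fun _ => rfl, fun _ => rfl, fun _ => rfl, fun _ => rfl, fun _ => rfl⟩

theorem grUniq {α β : MulAut (GU K)} (h : IsGr α) (k : IsGr β) : α = β := by
  ext g
  · rw [h.a, k.a]
  · rw [h.b, k.b]
  · rw [h.c, k.c]
  · rw [h.d, k.d]
  · rw [h.e, k.e]
  · rw [h.f, k.f]

theorem charP_three {K : Type u} [Field K] (h3 : (3 : K) = 0) : CharP K 3 := by
  exact (CharP.charP_iff_prime_eq_zero Nat.prime_three).2 (by exact_mod_cast h3)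

/-- the cubing automorphism of `K` -/
theorem exists_cube [Finite K] (h3 : (3 : K) = 0) : ∃ τ : K ≃+* K, ∀ x, τ x = x ^ 3 := by
  have : Fact (Nat.Prime 3) := ⟨Nat.prime_three⟩
  have := charP_three h3
  exact ⟨frobeniusEquiv K 3, fun x => rfl⟩

/-- the square of the graph automorphism is the cubing automorphism -/
theorem grSq {ρ : MulAut (GU K)} (h : IsGr ρ) {τ : K ≃+* K} (hτ : ∀ x, τ x = x ^ 3) : IsTor (ρ * ρ) 1 1 τ := by
  refine ⟨one_ne_zero, one_ne_zero, fun g => ?_, fun g => ?_, fun g => ?_, fun g => ?_, fun g => ?_, fun g => ?_⟩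
  · rw [MulAut.mul_apply, h.a, h.b, hτ]; ring
  · rw [MulAut.mul_apply, h.b, h.a, hτ]; ring
  · rw [MulAut.mul_apply, h.c, h.a, h.b, h.e, hτ]; ring
  · rw [MulAut.mul_apply, h.d, h.a, h.b, h.f, hτ]; ring
  · rw [MulAut.mul_apply, h.e, h.a, h.b, h.c, hτ]
    linear_combination (- g.a ^ 3 * g.b * g.e ^ 2 + g.a ^ 6 * g.b ^ 2 * g.e) * h.three
  · rw [MulAut.mul_apply, h.f, h.a, h.b, h.d, hτ]
    linear_combination (- g.a ^ 3 * g.b ^ 2 * g.f ^ 2 + g.a ^ 6 * g.b ^ 4 * g.f) * h.three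

theorem grComm {ρ α β : MulAut (GU K)} (h : IsGr ρ) {s t : K} {τ : K ≃+* K} (k : IsTor α s t τ)
    (k' : IsTor β t (s ^ 3) τ) : ρ * α = β * ρ := by
  ext g
  · rw [MulAut.mul_apply, MulAut.mul_apply, h.a, k.b, k'.a, h.a]
  · rw [MulAut.mul_apply, MulAut.mul_apply, h.b, k.a, k'.b, h.b, map_pow]; ring
  · rw [MulAut.mul_apply, MulAut.mul_apply, h.c, k.a, k.b, k.e, k'.c, h.c]
    simp only [map_sub, map_mul, map_pow]; ring
  · rw [MulAut.mul_apply, MulAut.mul_apply, h.d, k.a, k.b, k.f, k'.d, h.d]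
    simp only [map_sub, map_mul, map_pow]; ring
  · rw [MulAut.mul_apply, MulAut.mul_apply, h.e, k.a, k.b, k.c, k'.e, h.e]
    simp only [map_sub, map_mul, map_pow]; ring
  · rw [MulAut.mul_apply, MulAut.mul_apply, h.f, k.a, k.b, k.d, k'.f, h.f]
    simp only [map_sub, map_mul, map_pow]; ring

/-! ### the group `TT K` -/

theorem mem_TT_of_isTor {α : MulAut (GU K)} {s t : K} {τ : K ≃+* K} (h : IsTor α s t τ) : α ∈ TT K :=
  Subgroup.subset_closure (Or.inl ⟨s, t, τ, h⟩)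

theorem mem_TT_of_isGr {α : MulAut (GU K)} (h : IsGr α) : α ∈ TT K :=
  Subgroup.subset_closure (Or.inr h)

theorem TT_cases [Finite K] {α : MulAut (GU K)} (hα : α ∈ TT K) :
    (∃ s t τ, IsTor α s t τ) ∨ ∃ s t τ, ∃ α' ρ, IsTor α' s t τ ∧ IsGr ρ ∧ α = α' * ρ := by
  have key : ∀ x y : MulAut (GU K), ((∃ s t τ, IsTor x s t τ) ∨ ∃ s t τ, ∃ α' ρ, IsTor α' s t τ ∧ IsGr ρ ∧ x = α' * ρ) →
      ((∃ s t τ, IsTor y s t τ) ∨ ∃ s t τ, ∃ α' ρ, IsTor α' s t τ ∧ IsGr ρ ∧ y = α' * ρ) →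
      ((∃ s t τ, IsTor (x * y) s t τ) ∨ ∃ s t τ, ∃ α' ρ, IsTor α' s t τ ∧ IsGr ρ ∧ x * y = α' * ρ) := by
    rintro x y (⟨s, t, τ, h⟩ | ⟨s, t, τ, x', ρ, h, hρ, rfl⟩) (⟨s', t', τ', k⟩ | ⟨s', t', τ', y', ρ', k, hρ', rfl⟩)
    · exact Or.inl ⟨_, _, _, torMul h k⟩
    · exact Or.inr ⟨_, _, _, _, _, torMul h k, hρ', by rw [mul_assoc]⟩
    · obtain ⟨y'', hy⟩ := exists_isTor t' (s' ^ 3) τ' k.ne2 (pow_ne_zero _ k.ne1)
      refine Or.inr ⟨_, _, _, _, _, torMul h hy, hρ, ?_⟩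
      rw [mul_assoc, grComm hρ k hy, mul_assoc]
    · obtain ⟨y'', hy⟩ := exists_isTor t' (s' ^ 3) τ' k.ne2 (pow_ne_zero _ k.ne1)
      obtain ⟨τ0, hτ0⟩ := exists_cube hρ.three
      obtain rfl : ρ = ρ' := grUniq hρ hρ'
      have e : x' * ρ * (y' * ρ) = (x' * y'') * (ρ * ρ) := by
        rw [mul_assoc, ← mul_assoc ρ, grComm hρ k hy]; group
      rw [e]
      exact Or.inl ⟨_, _, _, torMul (torMul h hy) (grSq hρ hτ0)⟩
  induction hα using Subgroup.closure_induction with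
  | mem x hx =>
    rcases hx with h | h
    · exact Or.inl h
    · exact Or.inr ⟨_, _, _, 1, x, isTor_one, h, (one_mul x).symm⟩
  | one => exact Or.inl ⟨_, _, _, isTor_one⟩
  | mul x y _ _ hx hy => exact key x y hx hy
  | inv x _ hx =>
    rcases hx with ⟨s, t, τ, h⟩ | ⟨s, t, τ, x', ρ, h, hρ, rfl⟩
    · exact Or.inl ⟨_, _, _, torInv h⟩
    · obtain ⟨τ0, hτ0⟩ := exists_cube hρ.three
      have h1 : ρ⁻¹ = (ρ * ρ)⁻¹ * ρ := by group
      rw [mul_inv_rev, h1, mul_assoc]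
      exact key _ _ (Or.inl ⟨_, _, _, torInv (grSq hρ hτ0)⟩) (key _ _ (Or.inr ⟨_, _, _, 1, ρ, isTor_one, hρ, (one_mul ρ).symm⟩)
        (Or.inl ⟨_, _, _, torInv h⟩))

/-! ### Weyl elements -/

/-- the element `w_b` on `Q_b` -/
def wbE : MulAut (Qb K) where
  toFun g := ⟨⟨-(g : GU K).c, 0, (g : GU K).a, (g : GU K).d - 2 * (g : GU K).a * (g : GU K).c,
    -(g : GU K).f + 3 * (g : GU K).a * (g : GU K).c ^ 2, (g : GU K).e - 3 * (g : GU K).a ^ 2 * (g : GU K).c⟩, rfl⟩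
  invFun g := ⟨⟨(g : GU K).c, 0, -(g : GU K).a, (g : GU K).d - 2 * (g : GU K).a * (g : GU K).c,
    (g : GU K).f - 3 * (g : GU K).c ^ 2 * (g : GU K).a, -(g : GU K).e + 3 * (g : GU K).c * (g : GU K).a ^ 2⟩, rfl⟩
  left_inv g := by
    have hb : (g : GU K).b = 0 := g.2
    apply Subtype.ext
    ext
    · simp
    · exact hb.symm
    · simp
    · simp only []; ring
    · simp only []; ring
    · simp only []; ring
  right_inv g := by
    have hb : (g : GU K).b = 0 := g.2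
    apply Subtype.ext
    ext
    · simp
    · exact hb.symm
    · simp
    · simp only []; ring
    · simp only []; ring
    · simp only []; ring
  map_mul' x y := by
    have hx : (x : GU K).b = 0 := x.2
    have hy : (y : GU K).b = 0 := y.2
    apply Subtype.ext
    ext
    · simp only [Subgroup.coe_mul, GU.mul_a, GU.mul_c, hx]; ring
    · simp only [Subgroup.coe_mul, GU.mul_b, add_zero]
    · simp only [Subgroup.coe_mul, GU.mul_a, GU.mul_c, zero_mul, add_zero]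
    · simp only [Subgroup.coe_mul, GU.mul_a, GU.mul_c, GU.mul_d, hx]; ring
    · simp only [Subgroup.coe_mul, GU.mul_a, GU.mul_c, GU.mul_d, GU.mul_e, GU.mul_f, hx, hy]; ring
    · simp only [Subgroup.coe_mul, GU.mul_a, GU.mul_c, GU.mul_d, GU.mul_e, GU.mul_f, hx, hy]; ring

theorem isWb_wbE : IsWb (wbE (K := K)) := ⟨fun _ => rfl, fun _ => rfl, fun _ => rfl, fun _ => rfl, fun _ => rfl⟩

/-- the element `w_a` on `Q_a` -/
def waE : MulAut (Qa K) where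
  toFun g := ⟨⟨0, (g : GU K).e, -(g : GU K).d, (g : GU K).c, -(g : GU K).b,
    (g : GU K).f + (g : GU K).b * (g : GU K).e - 3 * (g : GU K).c * (g : GU K).d⟩, rfl⟩
  invFun g := ⟨⟨0, -(g : GU K).e, (g : GU K).d, -(g : GU K).c, (g : GU K).b,
    (g : GU K).f + (g : GU K).b * (g : GU K).e - 3 * (g : GU K).c * (g : GU K).d⟩, rfl⟩
  left_inv g := by
    have ha : (g : GU K).a = 0 := g.2
    apply Subtype.ext
    ext
    · exact ha.symm
    · simp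
    · simp
    · simp
    · simp
    · simp only []; ring
  right_inv g := by
    have ha : (g : GU K).a = 0 := g.2
    apply Subtype.ext
    ext
    · exact ha.symm
    · simp
    · simp
    · simp
    · simp
    · simp only []; ring
  map_mul' x y := by
    have hx : (x : GU K).a = 0 := x.2
    have hy : (y : GU K).a = 0 := y.2
    apply Subtype.ext
    ext
    · simp only [Subgroup.coe_mul, GU.mul_a, add_zero]
    · simp only [Subgroup.coe_mul, GU.mul_b, GU.mul_e, hx, hy]; ring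
    · simp only [Subgroup.coe_mul, GU.mul_c, GU.mul_d, hx, hy]; ring
    · simp only [Subgroup.coe_mul, GU.mul_c, GU.mul_d, hx, hy]; ring
    · simp only [Subgroup.coe_mul, GU.mul_b, GU.mul_e, hx, hy]; ring
    · simp only [Subgroup.coe_mul, GU.mul_b, GU.mul_c, GU.mul_d, GU.mul_e, GU.mul_f, hx, hy]; ring

theorem isWa_waE : IsWa (waE (K := K)) := ⟨fun _ => rfl, fun _ => rfl, fun _ => rfl, fun _ => rfl, fun _ => rfl⟩

/-- **(GRP)** -/
theorem stGrp : StGrp.{u} := by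
  intro K _ p n hK
  have hfin : Finite K := hK.fin
  have hp : Fact p.Prime := ⟨hK.pp⟩
  have hc : Nat.card (GU K) = (p ^ n) ^ 6 := by rw [GU.card_eq, hK.card]
  have hP : IsPGroup p (⊤ : Subgroup (GU K)) := by
    refine IsPGroup.of_card (n := n * 6) ?_
    rw [Nat.card_congr Subgroup.topEquiv.toEquiv, hc, ← pow_mul]
  refine ⟨hc, hP, fun s t τ hs ht => exists_isTor s t τ hs ht, ?_, fun α hα => TT_cases hα, ⟨_, isWb_wbE⟩, ⟨_, isWa_waE⟩⟩
  rintro rfl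
  have := hK.char
  exact ⟨_, isGr_grE (by exact_mod_cast CharP.cast_eq_zero K 3)⟩

end Cfsg.Agent.H650.GA
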