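import Mathlib

/-!
# S5211: the concrete Sylow `p`-subgroup `GU F` of `G₂(F)` (helper650)

The elements are `x1(r) x2(b) x3(c) x5(d) x6(e) x4(z)`, hexagon labels (`X1, X3, X5` short, `X2, X4, X6` long root groups,
`X4` central). `Q1 = {r = 0} = X2 ⋯ X6` is the Heisenberg group on `W = (b, c, d, e)` with centre `X4 = (z)`,
`Q2 = {e = 0} = X1 ⋯ X5`. All formulas hold over any commutative ring.
-/

set_option autoImplicit false

namespace Cfsg.Agent.H650.G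

universe u

/-- the unipotent group of type `G₂` -/
@[ext] structure GU (F : Type u) where
  r : F
  b : F
  c : F
  d : F
  e : F
  z : F

namespace GU

variable {F : Type u} [CommRing F]

instance : Mul (GU F) := ⟨fun x y =>
  { r := x.r + y.r
    b := x.b - 3 * y.r * x.c + 3 * y.r ^ 2 * x.d + x.e * y.r ^ 3 + y.b
    c := x.c - 2 * y.r * x.d - x.e * y.r ^ 2 + y.c
    d := x.d + x.e * y.r + y.d
    e := x.e + y.e
    z := x.z + 3 * y.r * x.d ^ 2 + 3 * x.e * y.r ^ 2 * x.d + x.e ^ 2 * y.r ^ 3 + y.z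
      - x.e * y.b - 3 * (x.d + x.e * y.r) * y.c }⟩

instance : One (GU F) := ⟨{ r := 0, b := 0, c := 0, d := 0, e := 0, z := 0 }⟩

instance : Inv (GU F) := ⟨fun x =>
  { r := - x.r
    b := - (x.b + 3 * x.r * x.c + 3 * x.r ^ 2 * x.d - x.e * x.r ^ 3)
    c := - (x.c + 2 * x.r * x.d - x.e * x.r ^ 2)
    d := - (x.d - x.e * x.r)
    e := - x.e
    z := - (x.z - 3 * x.r * x.d ^ 2 + 3 * x.e * x.r ^ 2 * x.d - x.e ^ 2 * x.r ^ 3)
      - x.e * (x.b + 3 * x.r * x.c + 3 * x.r ^ 2 * x.d - x.e * x.r ^ 3)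
      - 3 * (x.d - x.e * x.r) * (x.c + 2 * x.r * x.d - x.e * x.r ^ 2) }⟩

@[simp] theorem mul_r (x y : GU F) : (x * y).r = x.r + y.r := rfl
theorem mul_b (x y : GU F) : (x * y).b =
    x.b - 3 * y.r * x.c + 3 * y.r ^ 2 * x.d + x.e * y.r ^ 3 + y.b := rfl
theorem mul_c (x y : GU F) : (x * y).c = x.c - 2 * y.r * x.d - x.e * y.r ^ 2 + y.c := rfl
theorem mul_d (x y : GU F) : (x * y).d = x.d + x.e * y.r + y.d := rfl
@[simp] theorem mul_e (x y : GU F) : (x * y).e = x.e + y.e := rfl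
theorem mul_z (x y : GU F) : (x * y).z =
    x.z + 3 * y.r * x.d ^ 2 + 3 * x.e * y.r ^ 2 * x.d + x.e ^ 2 * y.r ^ 3 + y.z
      - x.e * y.b - 3 * (x.d + x.e * y.r) * y.c := rfl
@[simp] theorem one_r : (1 : GU F).r = 0 := rfl
@[simp] theorem one_b : (1 : GU F).b = 0 := rfl
@[simp] theorem one_c : (1 : GU F).c = 0 := rfl
@[simp] theorem one_d : (1 : GU F).d = 0 := rfl
@[simp] theorem one_e : (1 : GU F).e = 0 := rfl
@[simp] theorem one_z : (1 : GU F).z = 0 := rfl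
@[simp] theorem inv_r (x : GU F) : (x⁻¹).r = - x.r := rfl
theorem inv_b (x : GU F) : (x⁻¹).b =
    - (x.b + 3 * x.r * x.c + 3 * x.r ^ 2 * x.d - x.e * x.r ^ 3) := rfl
theorem inv_c (x : GU F) : (x⁻¹).c = - (x.c + 2 * x.r * x.d - x.e * x.r ^ 2) := rfl
theorem inv_d (x : GU F) : (x⁻¹).d = - (x.d - x.e * x.r) := rfl
@[simp] theorem inv_e (x : GU F) : (x⁻¹).e = - x.e := rfl
theorem inv_z (x : GU F) : (x⁻¹).z =
    - (x.z - 3 * x.r * x.d ^ 2 + 3 * x.e * x.r ^ 2 * x.d - x.e ^ 2 * x.r ^ 3)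
      - x.e * (x.b + 3 * x.r * x.c + 3 * x.r ^ 2 * x.d - x.e * x.r ^ 3)
      - 3 * (x.d - x.e * x.r) * (x.c + 2 * x.r * x.d - x.e * x.r ^ 2) := rfl

/-- `gu` proves identities between explicit products in `GU F` -/
macro "gu" : tactic => `(tactic|
  (ext <;> (try simp only [mul_r, mul_b, mul_c, mul_d, mul_e, mul_z, inv_r, inv_b, inv_c, inv_d, inv_e, inv_z,
    one_r, one_b, one_c, one_d, one_e, one_z]) <;> (try ring)))

instance : Group (GU F) where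
  mul_assoc x y w := by gu
  one_mul x := by gu
  mul_one x := by gu
  inv_mul_cancel x := by gu

instance [Finite F] : Finite (GU F) := Finite.of_injective
  (fun x : GU F => (x.r, x.b, x.c, x.d, x.e, x.z)) (by
    rintro ⟨r, b, c, d, e, z⟩ ⟨r', b', c', d', e', z'⟩ h
    simp only [Prod.mk.injEq] at h
    obtain ⟨rfl, rfl, rfl, rfl, rfl, rfl⟩ := h
    rfl)

/-- the underlying tuple -/
def equivProd (F : Type u) : GU F ≃ F × F × F × F × F × F where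
  toFun x := (x.r, x.b, x.c, x.d, x.e, x.z)
  invFun t := ⟨t.1, t.2.1, t.2.2.1, t.2.2.2.1, t.2.2.2.2.1, t.2.2.2.2.2⟩
  left_inv _ := rfl
  right_inv _ := rfl

theorem card_eq (F : Type u) [CommRing F] : Nat.card (GU F) = Nat.card F ^ 6 := by
  rw [Nat.card_congr (equivProd F)]
  simp only [Nat.card_prod]
  ring

/-! ### Root elements -/

def x1 (t : F) : GU F := ⟨t, 0, 0, 0, 0, 0⟩
def x2 (t : F) : GU F := ⟨0, t, 0, 0, 0, 0⟩
def x3 (t : F) : GU F := ⟨0, 0, t, 0, 0, 0⟩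
def x4 (t : F) : GU F := ⟨0, 0, 0, 0, 0, t⟩
def x5 (t : F) : GU F := ⟨0, 0, 0, t, 0, 0⟩
def x6 (t : F) : GU F := ⟨0, 0, 0, 0, t, 0⟩

/-- unfold root elements -/
macro "gx" : tactic => `(tactic|
  (ext <;> (try simp only [x1, x2, x3, x4, x5, x6, mul_r, mul_b, mul_c, mul_d, mul_e, mul_z, inv_r, inv_b, inv_c,
    inv_d, inv_e, inv_z, one_r, one_b, one_c, one_d, one_e, one_z, map_add, map_sub, map_mul, map_neg, map_pow,
    map_zero, map_one, map_ofNat]) <;> (try ring)))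

theorem eq_prod (x : GU F) : x = x1 x.r * x2 x.b * x3 x.c * x5 x.d * x6 x.e * x4 x.z := by gx

theorem x1_add (s t : F) : x1 (s + t) = x1 s * x1 t := by gx
theorem x2_add (s t : F) : x2 (s + t) = x2 s * x2 t := by gx
theorem x3_add (s t : F) : x3 (s + t) = x3 s * x3 t := by gx
theorem x4_add (s t : F) : x4 (s + t) = x4 s * x4 t := by gx
theorem x5_add (s t : F) : x5 (s + t) = x5 s * x5 t := by gx
theorem x6_add (s t : F) : x6 (s + t) = x6 s * x6 t := by gx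

theorem x1_zero : x1 (0 : F) = 1 := rfl
theorem x2_zero : x2 (0 : F) = 1 := rfl
theorem x3_zero : x3 (0 : F) = 1 := rfl
theorem x4_zero : x4 (0 : F) = 1 := rfl
theorem x5_zero : x5 (0 : F) = 1 := rfl
theorem x6_zero : x6 (0 : F) = 1 := rfl

theorem x1_inv (t : F) : (x1 t)⁻¹ = x1 (-t) := by gx
theorem x2_inv (t : F) : (x2 t)⁻¹ = x2 (-t) := by gx
theorem x3_inv (t : F) : (x3 t)⁻¹ = x3 (-t) := by gx
theorem x4_inv (t : F) : (x4 t)⁻¹ = x4 (-t) := by gx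
theorem x5_inv (t : F) : (x5 t)⁻¹ = x5 (-t) := by gx
theorem x6_inv (t : F) : (x6 t)⁻¹ = x6 (-t) := by gx

theorem x1_x2 (s t : F) : x1 s * x2 t = x2 t * x1 s := by gx
theorem x1_x3 (s t : F) : x1 s * x3 t = x3 t * x1 s * x2 (3 * s * t) := by gx
theorem x1_x4 (s t : F) : x1 s * x4 t = x4 t * x1 s := by gx
theorem x1_x5 (s t : F) : x1 s * x5 t =
    x5 t * x1 s * (x2 (-(3 * s ^ 2 * t)) * x3 (2 * s * t) * x4 (3 * s * t ^ 2)) := by gx
theorem x1_x6 (s t : F) : x1 s * x6 t =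
    x6 t * x1 s * (x2 (-(t * s ^ 3)) * x3 (t * s ^ 2) * x4 (t ^ 2 * s ^ 3) * x5 (-(t * s))) := by gx
theorem x2_x3 (s t : F) : x2 s * x3 t = x3 t * x2 s := by gx
theorem x2_x4 (s t : F) : x2 s * x4 t = x4 t * x2 s := by gx
theorem x2_x5 (s t : F) : x2 s * x5 t = x5 t * x2 s := by gx
theorem x2_x6 (s t : F) : x2 s * x6 t = x6 t * x2 s * x4 (s * t) := by gx
theorem x3_x4 (s t : F) : x3 s * x4 t = x4 t * x3 s := by gx
theorem x3_x5 (s t : F) : x3 s * x5 t = x5 t * x3 s * x4 (3 * s * t) := by gx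
theorem x3_x6 (s t : F) : x3 s * x6 t = x6 t * x3 s := by gx
theorem x4_x5 (s t : F) : x4 s * x5 t = x5 t * x4 s := by gx
theorem x4_x6 (s t : F) : x4 s * x6 t = x6 t * x4 s := by gx
theorem x5_x6 (s t : F) : x5 s * x6 t = x6 t * x5 s := by gx

/-! ### Automorphisms -/

/-- the torus element with weights `s` on `X1`, `t` on `X6` : `X5 : s t`, `X3 : s² t`, `X2 : s³ t`, `X4 : s³ t²` -/
def tor (s t : Fˣ) : GU F ≃* GU F where
  toFun x := ⟨s * x.r, s ^ 3 * t * x.b, s ^ 2 * t * x.c, s * t * x.d, t * x.e, s ^ 3 * t ^ 2 * x.z⟩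
  invFun x := ⟨(s⁻¹ : Fˣ) * x.r, (s⁻¹ : Fˣ) ^ 3 * (t⁻¹ : Fˣ) * x.b, (s⁻¹ : Fˣ) ^ 2 * (t⁻¹ : Fˣ) * x.c,
    (s⁻¹ : Fˣ) * (t⁻¹ : Fˣ) * x.d, (t⁻¹ : Fˣ) * x.e, (s⁻¹ : Fˣ) ^ 3 * (t⁻¹ : Fˣ) ^ 2 * x.z⟩
  left_inv x := by
    have hs : ((s⁻¹ : Fˣ) : F) * s = 1 := Units.inv_mul s
    have ht : ((t⁻¹ : Fˣ) : F) * t = 1 := Units.inv_mul t
    have h3 : ((s⁻¹ : Fˣ) : F) ^ 3 * s ^ 3 = 1 := by rw [← mul_pow, hs, one_pow]
    have h2 : ((s⁻¹ : Fˣ) : F) ^ 2 * s ^ 2 = 1 := by rw [← mul_pow, hs, one_pow]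
    have k2 : ((t⁻¹ : Fˣ) : F) ^ 2 * t ^ 2 = 1 := by rw [← mul_pow, ht, one_pow]
    ext
    · change ((s⁻¹ : Fˣ) : F) * (s * x.r) = x.r
      linear_combination x.r * hs
    · change ((s⁻¹ : Fˣ) : F) ^ 3 * ((t⁻¹ : Fˣ) : F) * (s ^ 3 * t * x.b) = x.b
      linear_combination (((t⁻¹ : Fˣ) : F) * t * x.b) * h3 + x.b * ht
    · change ((s⁻¹ : Fˣ) : F) ^ 2 * ((t⁻¹ : Fˣ) : F) * (s ^ 2 * t * x.c) = x.c
      linear_combination (((t⁻¹ : Fˣ) : F) * t * x.c) * h2 + x.c * ht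
    · change ((s⁻¹ : Fˣ) : F) * ((t⁻¹ : Fˣ) : F) * (s * t * x.d) = x.d
      linear_combination (((t⁻¹ : Fˣ) : F) * t * x.d) * hs + x.d * ht
    · change ((t⁻¹ : Fˣ) : F) * (t * x.e) = x.e
      linear_combination x.e * ht
    · change ((s⁻¹ : Fˣ) : F) ^ 3 * ((t⁻¹ : Fˣ) : F) ^ 2 * (s ^ 3 * t ^ 2 * x.z) = x.z
      linear_combination (((t⁻¹ : Fˣ) : F) ^ 2 * t ^ 2 * x.z) * h3 + x.z * k2
  right_inv x := by
    have hs : ((s⁻¹ : Fˣ) : F) * s = 1 := Units.inv_mul s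
    have ht : ((t⁻¹ : Fˣ) : F) * t = 1 := Units.inv_mul t
    have h3 : ((s⁻¹ : Fˣ) : F) ^ 3 * s ^ 3 = 1 := by rw [← mul_pow, hs, one_pow]
    have h2 : ((s⁻¹ : Fˣ) : F) ^ 2 * s ^ 2 = 1 := by rw [← mul_pow, hs, one_pow]
    have k2 : ((t⁻¹ : Fˣ) : F) ^ 2 * t ^ 2 = 1 := by rw [← mul_pow, ht, one_pow]
    ext
    · change (s : F) * (((s⁻¹ : Fˣ) : F) * x.r) = x.r
      linear_combination x.r * hs
    · change (s : F) ^ 3 * t * (((s⁻¹ : Fˣ) : F) ^ 3 * ((t⁻¹ : Fˣ) : F) * x.b) = x.b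
      linear_combination (((t⁻¹ : Fˣ) : F) * t * x.b) * h3 + x.b * ht
    · change (s : F) ^ 2 * t * (((s⁻¹ : Fˣ) : F) ^ 2 * ((t⁻¹ : Fˣ) : F) * x.c) = x.c
      linear_combination (((t⁻¹ : Fˣ) : F) * t * x.c) * h2 + x.c * ht
    · change (s : F) * t * (((s⁻¹ : Fˣ) : F) * ((t⁻¹ : Fˣ) : F) * x.d) = x.d
      linear_combination (((t⁻¹ : Fˣ) : F) * t * x.d) * hs + x.d * ht
    · change (t : F) * (((t⁻¹ : Fˣ) : F) * x.e) = x.e
      linear_combination x.e * ht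
    · change (s : F) ^ 3 * t ^ 2 * (((s⁻¹ : Fˣ) : F) ^ 3 * ((t⁻¹ : Fˣ) : F) ^ 2 * x.z) = x.z
      linear_combination (((t⁻¹ : Fˣ) : F) ^ 2 * t ^ 2 * x.z) * h3 + x.z * k2
  map_mul' x y := by
    ext
    · change (s : F) * (x.r + y.r) = s * x.r + s * y.r
      ring
    · change (s : F) ^ 3 * t * (x * y).b = s ^ 3 * t * x.b - 3 * (s * y.r) * (s ^ 2 * t * x.c)
        + 3 * (s * y.r) ^ 2 * (s * t * x.d) + (t * x.e) * (s * y.r) ^ 3 + s ^ 3 * t * y.b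
      rw [mul_b]; ring
    · change (s : F) ^ 2 * t * (x * y).c = s ^ 2 * t * x.c - 2 * (s * y.r) * (s * t * x.d)
        - (t * x.e) * (s * y.r) ^ 2 + s ^ 2 * t * y.c
      rw [mul_c]; ring
    · change (s : F) * t * (x * y).d = s * t * x.d + (t * x.e) * (s * y.r) + s * t * y.d
      rw [mul_d]; ring
    · change (t : F) * (x.e + y.e) = t * x.e + t * y.e
      ring
    · change (s : F) ^ 3 * t ^ 2 * (x * y).z = s ^ 3 * t ^ 2 * x.z + 3 * (s * y.r) * (s * t * x.d) ^ 2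
        + 3 * (t * x.e) * (s * y.r) ^ 2 * (s * t * x.d) + (t * x.e) ^ 2 * (s * y.r) ^ 3 + s ^ 3 * t ^ 2 * y.z
        - (t * x.e) * (s ^ 3 * t * y.b) - 3 * (s * t * x.d + (t * x.e) * (s * y.r)) * (s ^ 2 * t * y.c)
      rw [mul_z]; ring

/-- the field automorphism -/
def fld (τ : F ≃+* F) : GU F ≃* GU F where
  toFun x := ⟨τ x.r, τ x.b, τ x.c, τ x.d, τ x.e, τ x.z⟩
  invFun x := ⟨τ.symm x.r, τ.symm x.b, τ.symm x.c, τ.symm x.d, τ.symm x.e, τ.symm x.z⟩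
  left_inv x := by ext <;> simp
  right_inv x := by ext <;> simp
  map_mul' x y := by
    ext <;> simp only [mul_r, mul_b, mul_c, mul_d, mul_e, mul_z, map_add, map_sub, map_mul, map_pow, map_ofNat]

end GU

end Cfsg.Agent.H650.G
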