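import Cfsg.Agent.H650.GU.Syl
import Cfsg.Agent.H779.G2.Stmts

/-!
# S5211: the isomorphism with helper779's group, (SYL) (helper650)
-/

set_option autoImplicit false

namespace Cfsg.Agent.H650.G

universe u

variable {F : Type u} [Field F]

/-- `x1 -> x1, x6 -> x2, x5 -> x3, x3(t) -> x4(-t), x2 -> x5, x4(t) -> x6(-t)` -/
def isoH : GU F ≃* H779.G2.GU F where
  toFun x := ⟨x.r, x.e, x.d, -x.c, x.b, - (3 * x.c * x.d) - x.b * x.e - x.z⟩
  invFun y := ⟨y.a, y.e, -y.d, y.c, y.b, 3 * y.d * y.c - y.e * y.b - y.f⟩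
  left_inv x := by
    ext <;> simp only [] <;> ring
  right_inv y := by
    ext <;> simp only [] <;> ring
  map_mul' x y := by
    ext
    · rfl
    · rfl
    · simp only [GU.mul_d, H779.G2.GU.mul_c]; ring
    · simp only [GU.mul_c, H779.G2.GU.mul_d]; ring
    · simp only [GU.mul_b, H779.G2.GU.mul_e]; ring
    · simp only [GU.mul_b, GU.mul_c, GU.mul_d, GU.mul_e, GU.mul_z, H779.G2.GU.mul_f]; ring

theorem isoH_apply (x : GU F) : isoH x = ⟨x.r, x.e, x.d, -x.c, x.b, - (3 * x.c * x.d) - x.b * x.e - x.z⟩ := rfl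

theorem isoH_symm_apply (y : H779.G2.GU F) :
    isoH.symm y = ⟨y.a, y.e, -y.d, y.c, y.b, 3 * y.d * y.c - y.e * y.b - y.f⟩ := rfl

/-- **(SYL)** -/
theorem stSyl : H779.G2.StSyl.{u} := by
  intro K _ p n _ hK T
  have : Finite K := hK.fin
  have : CharP K p := hK.char
  obtain ⟨e⟩ := exists_equiv (F := K) T
  exact ⟨e.trans isoH⟩

end Cfsg.Agent.H650.G
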