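import Cfsg.Agent.H650.GU.Root
import Cfsg.Agent.H781.Realized

/-!
# S5211: (REAL), the fusion systems of `G₂(K) ⋊ D` (helper650)
-/

set_option autoImplicit false

namespace Cfsg.Agent.H650.GR

open Cfsg Cfsg.FusionSystem Cfsg.Lie Cfsg.Agent.H756.PU Cfsg.Agent.H779.G2 Cfsg.Agent.H650.GA Cfsg.Agent.H781
open Cfsg.Agent.ChevalleyStructure.Elts Cfsg.Agent.ChevalleyStructure.NConj
open Cfsg.Agent.ChevalleyStructure.WordCheck
open Cfsg.Agent.Hexagon.G2Pos Cfsg.Agent.Hexagon.G2Side Cfsg.Agent.Hexagon.Words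

open scoped Pointwise

universe u

variable {K : Type u} [Field K]

/-! ### the group of pairs -/

/-- the pairs of automorphisms -/
def S0 (x : MulAut (GU K) × MulAut ↥(chevG2.group K)) : Prop := ∃ s t τ, IsTor x.1 s t τ ∧ IsTG x.2 s t τ

def S1 (x : MulAut (GU K) × MulAut ↥(chevG2.group K)) : Prop := IsGr x.1 ∧ IsGG x.2

variable (K) in
def TG : Subgroup (MulAut (GU K) × MulAut ↥(chevG2.group K)) := Subgroup.closure ({x | S0 x} ∪ {x | S1 x})

theorem S0.mul {x y : MulAut (GU K) × MulAut ↥(chevG2.group K)} (hx : S0 x) (hy : S0 y) : S0 (x * y) := by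
  obtain ⟨s, t, τ, h, k⟩ := hx
  obtain ⟨s', t', τ', h', k'⟩ := hy
  exact ⟨_, _, _, torMul h h', k.mul k'⟩

theorem S0.inv {x : MulAut (GU K) × MulAut ↥(chevG2.group K)} (hx : S0 x) : S0 x⁻¹ := by
  obtain ⟨s, t, τ, h, k⟩ := hx
  exact ⟨_, _, _, torInv h, k.inv h.ne1 h.ne2⟩

theorem S0.one : S0 (1 : MulAut (GU K) × MulAut ↥(chevG2.group K)) := ⟨_, _, _, isTor_one, isTG_one⟩

theorem S1.sq [Finite K] {x : MulAut (GU K) × MulAut ↥(chevG2.group K)} (hx : S1 x) : S0 (x * x) := by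
  obtain ⟨τ, hτ⟩ := exists_cube hx.1.three
  exact ⟨_, _, _, grSq hx.1 hτ, hx.2.sq hτ⟩

theorem S1.uniq {x y : MulAut (GU K) × MulAut ↥(chevG2.group K)} (hx : S1 x) (hy : S1 y) : x = y :=
  Prod.ext (grUniq hx.1 hy.1) (hx.2.uniq hy.2)

theorem S1.comm {x y : MulAut (GU K) × MulAut ↥(chevG2.group K)} (hx : S1 x) (hy : S0 y) :
    ∃ z, S0 z ∧ x * y = z * x := by
  obtain ⟨s, t, τ, h, k⟩ := hy
  obtain ⟨z1, hz1⟩ := exists_isTor t (s ^ 3) τ h.ne2 (pow_ne_zero _ h.ne1)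
  obtain ⟨z2, hz2⟩ := exists_isTG (K := K) h.ne2 (pow_ne_zero 3 h.ne1) τ
  exact ⟨(z1, z2), ⟨_, _, _, hz1, hz2⟩, Prod.ext (grComm hx.1 h hz1) (hx.2.comm k hz2)⟩

theorem TG_cases [Finite K] {x : MulAut (GU K) × MulAut ↥(chevG2.group K)} (hx : x ∈ TG K) :
    S0 x ∨ ∃ y z, S0 y ∧ S1 z ∧ x = y * z := by
  have key : ∀ x y : MulAut (GU K) × MulAut ↥(chevG2.group K), (S0 x ∨ ∃ y z, S0 y ∧ S1 z ∧ x = y * z) →
      (S0 y ∨ ∃ y' z, S0 y' ∧ S1 z ∧ y = y' * z) → (S0 (x * y) ∨ ∃ y' z, S0 y' ∧ S1 z ∧ x * y = y' * z) := by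
    rintro x y (hx | ⟨x', z, hx, hz, rfl⟩) (hy | ⟨y', z', hy, hz', rfl⟩)
    · exact Or.inl (hx.mul hy)
    · exact Or.inr ⟨_, _, hx.mul hy, hz', by rw [mul_assoc]⟩
    · obtain ⟨w, hw, e⟩ := hz.comm hy
      exact Or.inr ⟨_, _, hx.mul hw, hz, by rw [mul_assoc, e, mul_assoc]⟩
    · obtain ⟨w, hw, e⟩ := hz.comm hy
      obtain rfl := hz.uniq hz'
      have e2 : x' * z * (y' * z) = (x' * w) * (z * z) := by
        rw [mul_assoc, ← mul_assoc z, e]; group
      rw [e2]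
      exact Or.inl ((hx.mul hw).mul hz.sq)
  induction hx using Subgroup.closure_induction with
  | mem x hx =>
    rcases hx with h | h
    · exact Or.inl h
    · exact Or.inr ⟨1, x, S0.one, h, (one_mul x).symm⟩
  | one => exact Or.inl S0.one
  | mul x y _ _ hx hy => exact key x y hx hy
  | inv x _ hx =>
    rcases hx with hx | ⟨y, z, hy, hz, rfl⟩
    · exact Or.inl hx.inv
    · have e : z⁻¹ = (z * z)⁻¹ * z := by group
      rw [mul_inv_rev, e, mul_assoc]
      exact key _ _ (Or.inl hz.sq.inv) (key _ _ (Or.inr ⟨1, z, S0.one, hz, (one_mul z).symm⟩) (Or.inl hy.inv))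

theorem TG_inj [Finite K] {x : MulAut (GU K) × MulAut ↥(chevG2.group K)} (hx : x ∈ TG K) (h1 : x.1 = 1) : x = 1 := by
  rcases TG_cases hx with ⟨s, t, τ, h, k⟩ | ⟨y, z, ⟨s, t, τ, h, k⟩, hz, rfl⟩
  · rw [h1] at h
    have ha : s = 1 := by
      have := h.a (e1 1)
      simp only [MulAut.one_apply, e1, map_one, mul_one] at this
      exact this.symm
    have hb : t = 1 := by
      have := h.b (e2 1)
      simp only [MulAut.one_apply, e2, map_one, mul_one] at this
      exact this.symm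
    have hτ : τ = RingEquiv.refl K := by
      ext u
      have := h.a (e1 u)
      simp only [MulAut.one_apply, e1, ha, one_mul] at this
      exact this.symm
    subst ha hb hτ
    exact Prod.ext h1 (k.uniq isTG_one)
  · exfalso
    have h2 := congrArg (fun α : MulAut (GU K) => (α (e1 1)).a) h1
    have h3 : ((y * z).1 (e1 (1 : K))).a = s * τ 0 := by
      show (y.1 (z.1 (e1 1))).a = _
      rw [h.a, hz.1.a]
      rfl
    rw [map_zero, mul_zero] at h3
    have h4 : (((1 : MulAut (GU K)) (e1 (1 : K)))).a = 1 := rfl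
    exact one_ne_zero (h4.symm.trans (h2.symm.trans h3))

theorem TG_cov {x : MulAut (GU K) × MulAut ↥(chevG2.group K)} (hx : x ∈ TG K) (g : GU K) :
    x.2 (ι K g) = ι K (x.1 g) := by
  induction hx using Subgroup.closure_induction generalizing g with
  | mem x hx =>
    rcases hx with ⟨s, t, τ, h, k⟩ | h
    · exact cov_tor h k g
    · exact cov_gr h.1 h.2 g
  | one => rfl
  | mul x y _ _ hx hy =>
    show x.2 (y.2 (ι K g)) = _
    rw [hy, hx]
    rfl
  | inv x _ hx =>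
    show x.2⁻¹ (ι K g) = ι K (x.1⁻¹ g)
    apply x.2.injective
    rw [MulAut.apply_inv_self, hx, MulAut.apply_inv_self]

theorem TG_surj [Finite K] {α : MulAut (GU K)} (hα : α ∈ TT K) : ∃ β, (α, β) ∈ TG K := by
  induction hα using Subgroup.closure_induction with
  | mem x hx =>
    rcases hx with ⟨s, t, τ, h⟩ | h
    · obtain ⟨β, hβ⟩ := exists_isTG (K := K) h.ne1 h.ne2 τ
      exact ⟨β, Subgroup.subset_closure (Or.inl ⟨s, t, τ, h, hβ⟩)⟩
    · obtain ⟨β, hβ⟩ := exists_isGG (K := K) h.three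
      exact ⟨β, Subgroup.subset_closure (Or.inr ⟨h, hβ⟩)⟩
  | one => exact ⟨1, (TG K).one_mem⟩
  | mul x y _ _ hx hy =>
    obtain ⟨β, hβ⟩ := hx
    obtain ⟨β', hβ'⟩ := hy
    exact ⟨β * β', (TG K).mul_mem hβ hβ'⟩
  | inv x _ hx =>
    obtain ⟨β, hβ⟩ := hx
    exact ⟨β⁻¹, (TG K).inv_mem hβ⟩

/-! ### Weyl elements -/

def nw (r r' : ℕ) : List (ℕ × PExpr) := [(r, .const 1), (r', .const (-1)), (r, .const 1)]

def nn (r r' : ℕ) : ↥(chevG2.group K) := xs r 1 * (xs r' (-1) * xs r 1)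

theorem n_conj {r r' s s' : ℕ} {f : ℤ} (h : check chevG2 0 0 1 (xw (nw r r' ++ [(s, .var 0)]))
    (xw ((s', .mul (.const f) (.var 0)) :: nw r r')) = true) (t : K) :
    nn r r' * xs s t * (nn r r')⁻¹ = (xs s' ((f : K) * t) : ↥(chevG2.group K)) := by
  rw [mul_inv_eq_iff_eq_mul]
  apply Subtype.ext
  have h1 := gval_eq hG2 (rho t t) 1 h
  have h2 : gval hG2 (rho t t) (nw r r') = ((nn r r' : ↥(chevG2.group K)) : GL chevG2.Idx K) := by
    unfold nw nn
    rw [gval_cons, gval_cons, gval_cons, gval_nil, mul_one, Subgroup.coe_mul, Subgroup.coe_mul, coe_xs, coe_xs]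
    simp [PExpr.denote]
  rw [gval_append, gval_cons, gval_nil, mul_one, gval_cons, h2] at h1
  rw [Subgroup.coe_mul, Subgroup.coe_mul, coe_xs, coe_xs]
  exact h1

theorem map_isWa {γ : MulAut (Qa K)} (h : IsWa γ) (e : Qa K) :
    nn 7 4 * ι K (e : GU K) * (nn 7 4)⁻¹ = ι K ((γ e : Qa K) : GU K) := by
  let q2 : K → Qa K := fun t => ⟨e2 t, rfl⟩
  let q3 : K → Qa K := fun t => ⟨e3 t, rfl⟩
  let q4 : K → Qa K := fun t => ⟨e4 t, rfl⟩
  let q5 : K → Qa K := fun t => ⟨e5 t, rfl⟩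
  let q6 : K → Qa K := fun t => ⟨e6 t, rfl⟩
  have g2 : ∀ t, ((γ (q2 t) : Qa K) : GU K) = e5 (-t) := fun t => by
    ext
    · exact (γ (q2 t)).2
    · rw [h.b]; rfl
    · rw [h.c]; show -(0 : K) = 0; ring
    · rw [h.d]; rfl
    · rw [h.e]; rfl
    · rw [h.f]; show (0 : K) + t * 0 - 3 * 0 * 0 = 0; ring
  have g3 : ∀ t, ((γ (q3 t) : Qa K) : GU K) = e4 t := fun t => by
    ext
    · exact (γ (q3 t)).2
    · rw [h.b]; rfl
    · rw [h.c]; show -(0 : K) = 0; ring
    · rw [h.d]; rfl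
    · rw [h.e]; show -(0 : K) = 0; ring
    · rw [h.f]; show (0 : K) + 0 * 0 - 3 * t * 0 = 0; ring
  have g4 : ∀ t, ((γ (q4 t) : Qa K) : GU K) = e3 (-t) := fun t => by
    ext
    · exact (γ (q4 t)).2
    · rw [h.b]; rfl
    · rw [h.c]; rfl
    · rw [h.d]; rfl
    · rw [h.e]; show -(0 : K) = 0; ring
    · rw [h.f]; show (0 : K) + 0 * 0 - 3 * 0 * t = 0; ring
  have g5 : ∀ t, ((γ (q5 t) : Qa K) : GU K) = e2 t := fun t => by
    ext
    · exact (γ (q5 t)).2
    · rw [h.b]; rfl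
    · rw [h.c]; show -(0 : K) = 0; ring
    · rw [h.d]; rfl
    · rw [h.e]; show -(0 : K) = 0; ring
    · rw [h.f]; show (0 : K) + 0 * t - 3 * 0 * 0 = 0; ring
  have g6 : ∀ t, ((γ (q6 t) : Qa K) : GU K) = e6 t := fun t => by
    ext
    · exact (γ (q6 t)).2
    · rw [h.b]; rfl
    · rw [h.c]; show -(0 : K) = 0; ring
    · rw [h.d]; rfl
    · rw [h.e]; show -(0 : K) = 0; ring
    · rw [h.f]; show t + 0 * 0 - 3 * 0 * 0 = t; ring
  have key : ∀ x y : Qa K, nn 7 4 * ι K (x : GU K) * (nn 7 4)⁻¹ = ι K ((γ x : Qa K) : GU K) →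
      nn 7 4 * ι K (y : GU K) * (nn 7 4)⁻¹ = ι K ((γ y : Qa K) : GU K) →
      nn 7 4 * ι K ((x * y : Qa K) : GU K) * (nn 7 4)⁻¹ = ι K ((γ (x * y) : Qa K) : GU K) := by
    intro x y hx hy
    rw [map_mul γ, Subgroup.coe_mul, Subgroup.coe_mul, map_mul, map_mul, ← hx, ← hy]
    group
  have he : e = q5 (e : GU K).e * q4 (e : GU K).d * q3 (e : GU K).c * q2 (e : GU K).b *
      q6 ((e : GU K).f - 3 * (e : GU K).d * (e : GU K).c + (e : GU K).e * (e : GU K).b) := by
    apply Subtype.ext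
    have h0 : (e : GU K).a = 0 := e.2
    have h1 := eq_prod (e : GU K)
    rw [h0] at h1
    have h2 : (e1 (0 : K)) = 1 := rfl
    rw [h2, one_mul] at h1
    exact h1
  rw [he]
  have c2 := fun t : K => n_conj (K := K) (r := 7) (r' := 4) (s := 6) (s' := 10) (f := 1) (by decide +kernel) t
  have c3 := fun t : K => n_conj (K := K) (r := 7) (r' := 4) (s := 8) (s' := 9) (f := 1) (by decide +kernel) t
  have c4 := fun t : K => n_conj (K := K) (r := 7) (r' := 4) (s := 9) (s' := 8) (f := -1) (by decide +kernel) t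
  have c5 := fun t : K => n_conj (K := K) (r := 7) (r' := 4) (s := 10) (s' := 6) (f := -1) (by decide +kernel) t
  have c6 := fun t : K => n_conj (K := K) (r := 7) (r' := 4) (s := 11) (s' := 11) (f := 1) (by decide +kernel) t
  refine key _ _ (key _ _ (key _ _ (key _ _ ?_ ?_) ?_) ?_) ?_
  · rw [g5]; show nn 7 4 * ι K (e5 _) * (nn 7 4)⁻¹ = _
    rw [ι5, ι2, c5]; congr 1; push_cast; ring
  · rw [g4]; show nn 7 4 * ι K (e4 _) * (nn 7 4)⁻¹ = _
    rw [ι4, ι3, c4]; congr 1; push_cast; ring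
  · rw [g3]; show nn 7 4 * ι K (e3 _) * (nn 7 4)⁻¹ = _
    rw [ι3, ι4, c3]; congr 1; push_cast; ring
  · rw [g2]; show nn 7 4 * ι K (e2 _) * (nn 7 4)⁻¹ = _
    rw [ι2, ι5, c2]; congr 1; push_cast; ring
  · rw [g6]; show nn 7 4 * ι K (e6 _) * (nn 7 4)⁻¹ = _
    rw [ι6, c6]; congr 1; push_cast; ring

theorem map_isWb {γ : MulAut (Qb K)} (h : IsWb γ) (e : Qb K) :
    nn 6 5 * ι K (e : GU K) * (nn 6 5)⁻¹ = ι K ((γ e : Qb K) : GU K) := by
  let q1 : K → Qb K := fun t => ⟨e1 t, rfl⟩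
  let q3 : K → Qb K := fun t => ⟨e3 t, rfl⟩
  let q4 : K → Qb K := fun t => ⟨e4 t, rfl⟩
  let q5 : K → Qb K := fun t => ⟨e5 t, rfl⟩
  let q6 : K → Qb K := fun t => ⟨e6 t, rfl⟩
  have g1 : ∀ t, ((γ (q1 t) : Qb K) : GU K) = e3 t := fun t => by
    ext
    · rw [h.a]; show -(0 : K) = 0; ring
    · exact (γ (q1 t)).2
    · rw [h.c]; rfl
    · rw [h.d]; show (0 : K) - 2 * t * 0 = 0; ring
    · rw [h.e]; show -(0 : K) + 3 * t * 0 ^ 2 = 0; ring
    · rw [h.f]; show (0 : K) - 3 * t ^ 2 * 0 = 0; ring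
  have g3 : ∀ t, ((γ (q3 t) : Qb K) : GU K) = e1 (-t) := fun t => by
    ext
    · rw [h.a]; rfl
    · exact (γ (q3 t)).2
    · rw [h.c]; rfl
    · rw [h.d]; show (0 : K) - 2 * 0 * t = 0; ring
    · rw [h.e]; show -(0 : K) + 3 * 0 * t ^ 2 = 0; ring
    · rw [h.f]; show (0 : K) - 3 * 0 ^ 2 * t = 0; ring
  have g4 : ∀ t, ((γ (q4 t) : Qb K) : GU K) = e4 t := fun t => by
    ext
    · rw [h.a]; show -(0 : K) = 0; ring
    · exact (γ (q4 t)).2
    · rw [h.c]; rfl
    · rw [h.d]; show t - 2 * 0 * 0 = t; ring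
    · rw [h.e]; show -(0 : K) + 3 * 0 * 0 ^ 2 = 0; ring
    · rw [h.f]; show (0 : K) - 3 * 0 ^ 2 * 0 = 0; ring
  have g5 : ∀ t, ((γ (q5 t) : Qb K) : GU K) = e6 t := fun t => by
    ext
    · rw [h.a]; show -(0 : K) = 0; ring
    · exact (γ (q5 t)).2
    · rw [h.c]; rfl
    · rw [h.d]; show (0 : K) - 2 * 0 * 0 = 0; ring
    · rw [h.e]; show -(0 : K) + 3 * 0 * 0 ^ 2 = 0; ring
    · rw [h.f]; show t - 3 * 0 ^ 2 * 0 = t; ring
  have g6 : ∀ t, ((γ (q6 t) : Qb K) : GU K) = e5 (-t) := fun t => by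
    ext
    · rw [h.a]; show -(0 : K) = 0; ring
    · exact (γ (q6 t)).2
    · rw [h.c]; rfl
    · rw [h.d]; show (0 : K) - 2 * 0 * 0 = 0; ring
    · rw [h.e]; show -t + 3 * 0 * 0 ^ 2 = -t; ring
    · rw [h.f]; show (0 : K) - 3 * 0 ^ 2 * 0 = 0; ring
  have key : ∀ x y : Qb K, nn 6 5 * ι K (x : GU K) * (nn 6 5)⁻¹ = ι K ((γ x : Qb K) : GU K) →
      nn 6 5 * ι K (y : GU K) * (nn 6 5)⁻¹ = ι K ((γ y : Qb K) : GU K) →
      nn 6 5 * ι K ((x * y : Qb K) : GU K) * (nn 6 5)⁻¹ = ι K ((γ (x * y) : Qb K) : GU K) := by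
    intro x y hx hy
    rw [map_mul γ, Subgroup.coe_mul, Subgroup.coe_mul, map_mul, map_mul, ← hx, ← hy]
    group
  have he : e = q1 (e : GU K).a * (q5 (e : GU K).e * q4 (e : GU K).d * q3 (e : GU K).c *
      q6 ((e : GU K).f - 3 * (e : GU K).d * (e : GU K).c)) := by
    apply Subtype.ext
    have h0 : (e : GU K).b = 0 := e.2
    have h1 := eq_prod (e : GU K)
    rw [h0] at h1
    have h2 : (e2 (0 : K)) = 1 := rfl
    rw [h2, mul_one, mul_zero, add_zero] at h1
    exact h1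
  rw [he]
  have c1 := fun t : K => n_conj (K := K) (r := 6) (r' := 5) (s := 7) (s' := 8) (f := 1) (by decide +kernel) t
  have c3 := fun t : K => n_conj (K := K) (r := 6) (r' := 5) (s := 8) (s' := 7) (f := -1) (by decide +kernel) t
  have c4 := fun t : K => n_conj (K := K) (r := 6) (r' := 5) (s := 9) (s' := 9) (f := 1) (by decide +kernel) t
  have c5 := fun t : K => n_conj (K := K) (r := 6) (r' := 5) (s := 10) (s' := 11) (f := 1) (by decide +kernel) t
  have c6 := fun t : K => n_conj (K := K) (r := 6) (r' := 5) (s := 11) (s' := 10) (f := -1) (by decide +kernel) t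
  refine key _ _ ?_ (key _ _ (key _ _ (key _ _ ?_ ?_) ?_) ?_)
  · rw [g1]; show nn 6 5 * ι K (e1 _) * (nn 6 5)⁻¹ = _
    rw [ι1, ι3, c1]; congr 1; push_cast; ring
  · rw [g5]; show nn 6 5 * ι K (e5 _) * (nn 6 5)⁻¹ = _
    rw [ι5, ι6, c5]; congr 1; push_cast; ring
  · rw [g4]; show nn 6 5 * ι K (e4 _) * (nn 6 5)⁻¹ = _
    rw [ι4, c4]; congr 1; push_cast; ring
  · rw [g3]; show nn 6 5 * ι K (e3 _) * (nn 6 5)⁻¹ = _
    rw [ι3, ι1, c3]; congr 1; push_cast; ring
  · rw [g6]; show nn 6 5 * ι K (e6 _) * (nn 6 5)⁻¹ = _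
    rw [ι6, ι5, c6]; congr 1; push_cast; ring

/-! ### the Sylow subgroup and its normalizer -/

theorem not_dvd_index [Finite K] {p : ℕ} [Fact p.Prime] [CharP K p] : ¬ p ∣ (ι K).range.index := by
  have := Fintype.ofFinite K
  have hp : p.Prime := Fact.out
  obtain ⟨n, -, hn⟩ := FiniteField.card K p
  have hq : Nat.card K = p ^ (n : ℕ) := by rw [Nat.card_eq_fintype_card, hn]
  have : Finite ↥(chevG2.group K) := by
    have : Finite (GL chevG2.Idx K) := inferInstance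
    infer_instance
  have hG : Nat.card ↥(chevG2.group K) = Nat.card K ^ 6 * (Nat.card K ^ 2 - 1) * (Nat.card K ^ 6 - 1) :=
    Cfsg.Agent.S1059.result (F := K) Nat.card_eq_fintype_card.symm
  have hn0 : (n : ℕ) ≠ 0 := n.ne_zero
  have hcop : ∀ k : ℕ, k ≠ 0 → ¬ p ∣ Nat.card K ^ k - 1 := by
    intro k hk h
    have h1 : p ∣ Nat.card K ^ k := by
      rw [hq, ← pow_mul]
      exact dvd_pow_self p (mul_ne_zero hn0 hk)
    have h2 : 1 ≤ Nat.card K ^ k := Nat.one_le_pow _ _ Nat.card_pos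
    have h3 : p ∣ 1 := (Nat.dvd_sub h1 h).trans (by rw [Nat.sub_sub_self h2])
    exact hp.one_lt.ne' (Nat.dvd_one.1 h3)
  have h4 := (ι K).range.card_mul_index
  rw [range_ι] at h4 ⊢
  rw [G.card_range, hG, mul_assoc] at h4
  have h5 := Nat.eq_of_mul_eq_mul_left (pow_pos Nat.card_pos 6) h4
  rw [h5, hp.dvd_mul]
  rintro (h | h)
  · exact hcop 2 (by norm_num) h
  · exact hcop 6 (by norm_num) h

theorem map_range : (ι K).range.map (chevG2.group K).subtype = chevG2.posUnipotent K := by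
  apply le_antisymm
  · rintro _ ⟨_, ⟨x, rfl⟩, rfl⟩
    rw [eq_prod x]
    have hpos : ∀ r : ℕ, (r = 6 ∨ r = 7 ∨ r = 8 ∨ r = 9 ∨ r = 10 ∨ r = 11) → ∀ t : K,
        ((xs r t : ↥(chevG2.group K)) : GL chevG2.Idx K) ∈ chevG2.posUnipotent K := by
      intro r hr t
      refine xG_mem_posUnipotent hG2 ?_ t
      rcases hr with rfl | rfl | rfl | rfl | rfl | rfl <;> decide +kernel
    simp only [map_mul, ι1, ι2, ι3, ι4, ι5, ι6]
    refine Subgroup.mul_mem _ (hpos _ (by norm_num) _) (Subgroup.mul_mem _ (Subgroup.mul_mem _ (Subgroup.mul_mem _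
      (Subgroup.mul_mem _ (hpos _ (by norm_num) _) (hpos _ (by norm_num) _)) (hpos _ (by norm_num) _))
      (hpos _ (by norm_num) _)) (hpos _ (by norm_num) _))
  · rw [range_ι]
    exact G.posUnipotent_le

theorem radical_empty : chevG2.unipotentRadical K ∅ = chevG2.posUnipotent K := by
  have h : ∀ r < 12, ∃ i < 2, (chevG2.coroot.getD r #[]).getD i 0 ≠ 0 := by decide +kernel
  apply le_antisymm
  · unfold ChevalleyDatum.unipotentRadical
    rw [Subgroup.closure_le]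
    rintro g ⟨r, t, h1, -, h3⟩
    exact Subgroup.subset_closure ⟨r, t, h1, h3⟩
  · unfold ChevalleyDatum.posUnipotent
    rw [Subgroup.closure_le]
    rintro g ⟨r, t, h1, h3⟩
    refine Subgroup.subset_closure ⟨r, t, h1, ?_, h3⟩
    rintro ⟨h4, h5⟩
    obtain ⟨i, hi, h6⟩ := h r h4
    exact h6 (h5 i hi (Set.notMem_empty i))

/-- the normalizer of the Sylow subgroup -/
theorem nrm [Finite K] {g : ↥(chevG2.group K)} (hg : ∀ x : GU K, g * ι K x * g⁻¹ ∈ (ι K).range) :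
    ∃ (u : GU K) (s t : K) (α : MulAut (GU K)), IsTor α s t (RingEquiv.refl K) ∧
      ∀ x : GU K, g * ι K x * g⁻¹ = ι K (u * α x * u⁻¹) := by
  have hfin : Finite (GL chevG2.Idx K) := inferInstance
  have h1 : (g : GL chevG2.Idx K) ∈ Subgroup.normalizer (chevG2.posUnipotent K : Set (GL chevG2.Idx K)) := by
    have : Finite ↥(chevG2.posUnipotent K : Set (GL chevG2.Idx K)) := inferInstance
    apply Subgroup.mem_normalizer_fintype
    intro n hn
    rw [← map_range] at hn ⊢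
    obtain ⟨_, ⟨x, rfl⟩, rfl⟩ := hn
    exact ⟨g * ι K x * g⁻¹, hg x, rfl⟩
  have h2 : (g : GL chevG2.Idx K) ∈ chevG2.borelSubgroup K := by
    have h3 : (g : GL chevG2.Idx K) ∈ chevG2.parabolicSubgroup K ∅ := by
      rw [← Cfsg.Agent.S1049.result (F := K) chevG2 hG2 ∅ (fun j hj => absurd hj (Set.notMem_empty j))]
      refine ⟨?_, g.2⟩
      rw [radical_empty]
      exact h1
    have h4 : chevG2.parabolicSubgroup K ∅ ≤ chevG2.borelSubgroup K := by
      refine sup_le le_rfl ((Subgroup.closure_le _).2 ?_)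
      rintro x ⟨j, hj, -⟩
      exact absurd hj (Set.notMem_empty j)
    exact h4 h3
  have h5 : (chevG2.borelSubgroup K : Set (GL chevG2.Idx K)) =
      (chevG2.posUnipotent K : Set (GL chevG2.Idx K)) * (chevG2.diagonalSubgroup K : Set (GL chevG2.Idx K)) :=
    Subgroup.coe_mul_of_right_le_normalizer_left _ _ (Cfsg.Agent.S1036.result (F := K) chevG2 hG2).1
  have h6 : (g : GL chevG2.Idx K) ∈ (chevG2.borelSubgroup K : Set (GL chevG2.Idx K)) := h2
  rw [h5] at h6
  obtain ⟨v, hv, h, hh, hvh⟩ := h6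
  have hv' : v ∈ (ι K).range.map (chevG2.group K).subtype := by rw [map_range]; exact hv
  obtain ⟨_, ⟨u, rfl⟩, hu⟩ := hv'
  obtain ⟨c, hc, hw⟩ := Cfsg.Agent.S1034.result (F := K) chevG2 hG2 h hh
  have hc0 := hc 0 (by decide)
  have hc1 := hc 1 (by decide)
  have hw' : (h : Matrix chevG2.Idx chevG2.Idx K) =
      chevG2.hMat K (chevG2.simple 0) (c 0) * chevG2.hMat K (chevG2.simple 1) (c 1) := by
    rw [hw]
    have e : (List.range chevG2.rank) = [0, 1] := rfl
    rw [e, List.flatMap_cons, List.flatMap_cons, List.flatMap_nil, List.append_nil, wordMat_append]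
    rfl
  let s := c 0 ^ 2 * (c 1)⁻¹
  let t := (c 0 ^ 3)⁻¹ * c 1 ^ 2
  have hs : s ≠ 0 := mul_ne_zero (pow_ne_zero _ hc0) (inv_ne_zero hc1)
  have ht : t ≠ 0 := mul_ne_zero (inv_ne_zero (pow_ne_zero _ hc0)) (pow_ne_zero _ hc1)
  have k0 : s ^ 2 * t = c 0 := by
    show (c 0 ^ 2 * (c 1)⁻¹) ^ 2 * ((c 0 ^ 3)⁻¹ * c 1 ^ 2) = c 0
    field_simp
  have k1 : s ^ 3 * t ^ 2 = c 1 := by
    show (c 0 ^ 2 * (c 1)⁻¹) ^ 3 * ((c 0 ^ 3)⁻¹ * c 1 ^ 2) ^ 2 = c 1
    field_simp
  let h' : ↥(chevG2.group K) := ⟨h, diagonal_le_group hG2 K hh⟩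
  have hTG : IsTG (MulAut.conj h') s t (RingEquiv.refl K) := by
    apply isTG_conj hs ht
    rw [k0, k1]
    exact hw'
  obtain ⟨α, hα⟩ := exists_isTor s t (RingEquiv.refl K) hs ht
  have hg' : g = ι K u * h' := by
    apply Subtype.ext
    rw [Subgroup.coe_mul, ← hvh]
    congr 1
    exact hu.symm
  refine ⟨u, s, t, α, hα, fun x => ?_⟩
  have h7 := cov_tor hα hTG x
  rw [MulAut.conj_apply] at h7
  rw [hg', map_mul, map_mul, map_inv, ← h7]
  group

/-! ### the fusion systems -/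

theorem card_comap_of_inj {A B : Type*} [Group A] [Group B] (f : A →* B) (hf : Function.Injective f) {D : Subgroup B}
    (hD : D ≤ f.range) : Nat.card (D.comap f) = Nat.card D := by
  have h1 : (D.comap f).map f = D := by
    rw [Subgroup.map_comap_eq, inf_eq_right.2 hD]
  calc Nat.card (D.comap f) = Nat.card ((D.comap f).map f) :=
        Nat.card_congr ((D.comap f).equivMapOfInjective f hf).toEquiv
    _ = Nat.card D := by rw [h1]

/-- the fusion system of `G0 ⋊ D` -/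
theorem real_core [Finite K] {p : ℕ} [Fact p.Prime] (hpg : IsPGroup p (⊤ : Subgroup (GU K)))
    {G0 : Type u} [Group G0] [Finite G0] {T0 : Type u} [Group T0] [Finite T0] (i : GU K →* G0)
    (ρ : T0 →* MulAut (GU K)) (A : T0 →* MulAut G0) (hi : Function.Injective i) (hρinj : Function.Injective ρ)
    (hcov : ∀ (t : T0) (x : GU K), A t (i x) = i (ρ t x)) (hsyl : ¬ p ∣ i.range.index)
    (hnrm : ∀ g : G0, (∀ x : GU K, g * i x * g⁻¹ ∈ i.range) →
      ∃ (u : GU K) (s t : K) (α : MulAut (GU K)), IsTor α s t (RingEquiv.refl K) ∧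
        ∀ x : GU K, g * i x * g⁻¹ = i (u * α x * u⁻¹))
    (hTTρ : TT K ≤ ρ.range) {D : Subgroup (MulAut (GU K))} (hDT : D ≤ TT K) (hDc : (Nat.card D).Coprime p)
    (hFull : Full D) : ∃ F : FusionSystem (⊤ : Subgroup (GU K)), F.IsSaturated p ∧ F.IsRealizable p ∧
      AF F = (MulAut.conj : GU K →* MulAut (GU K)).range ⊔ D ∧
      ∀ (Q : Subgroup (GU K)) (γ : MulAut Q), (∃ g : G0, ∀ e : Q, g * i (e : GU K) * g⁻¹ = i ((γ e : Q) : GU K)) →
        γ ∈ F.autGroup Q := by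
  have hp : p.Prime := Fact.out
  have hfinU : Finite (GU K) := inferInstance
  let TD : Subgroup T0 := D.comap ρ
  have hTDc : (Nat.card TD).Coprime p := by
    rw [card_comap_of_inj ρ hρinj (hDT.trans hTTρ)]
    exact hDc
  let φ : TD →* MulAut G0 := A.comp TD.subtype
  have hφ : ∀ (t : TD) (x : GU K), φ t (i x) = i (ρ t x) := fun t x => hcov t x
  have hfinG : Finite (G0 ⋊[φ] TD) := Finite.of_equiv _ SemidirectProduct.equivProd.symm
  let j : (⊤ : Subgroup (GU K)) →* G0 ⋊[φ] TD :=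
    (SemidirectProduct.inl.comp i).comp (Subgroup.topEquiv (G := GU K)).toMonoidHom
  have hj : ∀ x : (⊤ : Subgroup (GU K)), j x = SemidirectProduct.inl (i (x : GU K)) := fun x => rfl
  have hinj : Function.Injective j := by
    intro a b hab
    rw [hj, hj] at hab
    exact Subtype.ext (hi (SemidirectProduct.inl_injective hab))
  -- conjugation in the semidirect product
  have hconj : ∀ (g : G0 ⋊[φ] TD) (x : GU K), g * SemidirectProduct.inl (i x) * g⁻¹ =
      SemidirectProduct.inl (g.left * i (ρ g.right x) * g.left⁻¹) := by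
    intro g x
    have h1 := SemidirectProduct.inl_aut (φ := φ) g.right (i x)
    have h2 := (SemidirectProduct.inl_left_mul_inr_right g).symm
    rw [map_mul, map_mul, ← hφ, h1, map_inv]
    conv_lhs => rw [h2]
    rw [mul_inv_rev, map_inv]
    simp only [mul_assoc]
  -- the Sylow subgroup
  have hrangep : IsPGroup p j.range := hpg.of_surjective j.rangeRestrict j.rangeRestrict_surjective
  have hidx : ¬ p ∣ j.range.index := by
    have h1 : Nat.card j.range = Nat.card (GU K) := by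
      rw [← Nat.card_congr (MonoidHom.ofInjective hinj).toEquiv]
      exact Nat.card_congr Subgroup.topEquiv.toEquiv
    have h2 : Nat.card i.range = Nat.card (GU K) :=
      (Nat.card_congr (MonoidHom.ofInjective hi).toEquiv).symm
    have h3 : Nat.card (G0 ⋊[φ] TD) = Nat.card G0 * Nat.card TD := by
      rw [Nat.card_congr SemidirectProduct.equivProd, Nat.card_prod]
    have h4 := j.range.card_mul_index
    rw [h3, ← i.range.card_mul_index, h1, h2, mul_assoc] at h4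
    have h5 := Nat.eq_of_mul_eq_mul_left Nat.card_pos h4
    rw [h5]
    apply hp.not_dvd_mul hsyl
    rw [← Nat.Prime.coprime_iff_not_dvd hp]
    exact hTDc.symm
  let T : Sylow p (G0 ⋊[φ] TD) := hrangep.toSylow hidx
  have hT : (T : Subgroup (G0 ⋊[φ] TD)) = j.range := rfl
  have hreal := pullback_isRealizedBy j hinj
  -- membership in automizers
  have haut : ∀ (Q : Subgroup (GU K)) (γ : MulAut Q), γ ∈ (pullback j hinj).autGroup Q ↔
      ∃ g : G0 ⋊[φ] TD, ∀ e : Q, i ((γ e : Q) : GU K) = g.left * i (ρ g.right (e : GU K)) * g.left⁻¹ := by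
    intro Q γ
    rw [H802.mem_autGroup_iff _ le_top]
    constructor
    · rintro ⟨h1, h2, g, hg⟩
      refine ⟨g, fun e => ?_⟩
      have h3 := hg e
      rw [hj, hj, hconj] at h3
      exact SemidirectProduct.inl_injective h3
    · rintro ⟨g, hg⟩
      refine ⟨le_top, fun _ => trivial, g, fun e => ?_⟩
      rw [hj, hj, hconj]
      exact congrArg _ (hg e)
  -- the automizer of the whole group
  have hAF : ∀ α : MulAut (GU K), α ∈ AF (pullback j hinj) ↔
      ∃ g : G0 ⋊[φ] TD, ∀ x : GU K, i (α x) = g.left * i (ρ g.right x) * g.left⁻¹ := by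
    intro α
    have h1 : α ∈ AF (pullback j hinj) ↔
        (MulAut.congr (Subgroup.topEquiv (G := GU K))).symm α ∈ (pullback j hinj).autGroup ⊤ := by
      constructor
      · rintro ⟨β, hβ, rfl⟩
        rw [MulEquiv.coe_toMonoidHom, MulEquiv.symm_apply_apply]
        exact hβ
      · intro h
        exact ⟨_, h, MulEquiv.apply_symm_apply _ _⟩
    rw [h1, haut]
    constructor
    · rintro ⟨g, hg⟩
      exact ⟨g, fun x => hg ⟨x, trivial⟩⟩
    · rintro ⟨g, hg⟩
      exact ⟨g, fun x => hg x⟩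
  have hρD : ∀ t : TD, ρ t ∈ D := fun t => t.2
  refine ⟨pullback j hinj, isSaturated_of_isRealizedBy hreal T hT, ⟨_, inferInstance, hfinG, j, hreal, T, hT⟩, ?_, ?_⟩
  · apply le_antisymm
    · intro α hα
      obtain ⟨g, hg⟩ := (hAF α).1 hα
      obtain ⟨u, s, t, a, ha, h⟩ := hnrm g.left (fun x => by
        refine ⟨α ((ρ g.right)⁻¹ x), ?_⟩
        rw [hg, MulAut.apply_inv_self])
      have h1 : α = MulAut.conj u * (a * ρ g.right) := by
        ext1 x
        apply hi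
        rw [hg, h]
        rfl
      rw [h1]
      exact Subgroup.mul_mem_sup ⟨u, rfl⟩ (D.mul_mem (hFull s t a ha) (hρD _))
    · apply sup_le
      · rintro _ ⟨u, rfl⟩
        rw [hAF]
        refine ⟨SemidirectProduct.inl (i u), fun x => ?_⟩
        rw [SemidirectProduct.left_inl, SemidirectProduct.right_inl, OneMemClass.coe_one, map_one, MulAut.one_apply,
          ← map_mul, ← map_inv, ← map_mul]
        rfl
      · intro d hd
        obtain ⟨t, ht⟩ := hTTρ (hDT hd)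
        rw [hAF]
        refine ⟨SemidirectProduct.inr ⟨t, by show ρ t ∈ D; rw [ht]; exact hd⟩, fun x => ?_⟩
        rw [SemidirectProduct.left_inr, SemidirectProduct.right_inr, one_mul, inv_one, mul_one, ht]
  · rintro Q γ ⟨g, hg⟩
    rw [haut]
    refine ⟨SemidirectProduct.inl g, fun e => ?_⟩
    rw [SemidirectProduct.left_inl, SemidirectProduct.right_inl, OneMemClass.coe_one, map_one, MulAut.one_apply, hg]

/-- **(REAL)** -/
theorem stReal : StReal.{u} := by
  intro K _ p n _ hK D hDT hDc hFull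
  obtain ⟨-, hpg, -⟩ := stGrp hK
  have hfinK : Finite K := hK.fin
  have hchar : CharP K p := hK.char
  have hfinM : Finite (MulAut (GU K)) := Finite.of_injective (fun e : MulAut (GU K) => (e : GU K → GU K))
    (fun a b h => MulEquiv.ext (fun x => congrFun h x))
  let ρ : TG K →* MulAut (GU K) := (MonoidHom.fst _ _).comp (TG K).subtype
  let A : TG K →* MulAut ↥(chevG2.group K) := (MonoidHom.snd _ _).comp (TG K).subtype
  have hρinj : Function.Injective ρ := by
    rw [injective_iff_map_eq_one]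
    intro x hx
    exact Subtype.ext (TG_inj x.2 hx)
  have hfinT : Finite (TG K) := Finite.of_injective ρ hρinj
  have hfinG0 : Finite ↥(chevG2.group K) := by
    have : Finite (GL chevG2.Idx K) := inferInstance
    infer_instance
  -- the range of `ρ`
  have hTTρ : TT K ≤ ρ.range := by
    intro α hα
    obtain ⟨β, hβ⟩ := TG_surj hα
    exact ⟨⟨_, hβ⟩, rfl⟩
  obtain ⟨F, h1, h2, h3, h4⟩ := real_core hpg (ι K) ρ A ι_injective hρinj (fun t x => TG_cov t.2 x) not_dvd_index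
    (fun g hg => nrm hg) hTTρ hDT hDc hFull
  exact ⟨F, h1, h2, h3, fun γ hγ => h4 _ _ ⟨_, map_isWa hγ⟩, fun γ hγ => h4 _ _ ⟨_, map_isWb hγ⟩⟩

end Cfsg.Agent.H650.GR
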