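import Cfsg.Agent.SplitTwo.HexDefs

/-!
# S5211: products of root elements from the positive relations `HexRel` (helper650)

`hh b c d e z = x2 b * x3 c * x5 d * x6 e * x4 z`; `hh_mul`, `hh_x1`: multiplication, action of `x1`.
-/

set_option autoImplicit false
set_option linter.unusedSectionVars false
set_option linter.unusedSimpArgs false

namespace Cfsg.Agent.H650.G.Rel

open Cfsg.Agent.SplitTwo

universe u

section fix

variable {E : Type u} [Field E] {σ : E ≃+* E} [hσ : Fact (∀ a : E, σ (σ (σ a)) = a)]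

theorem trc_fix (a b : E) : σ (trc σ a b) = trc σ a b := by
  simp only [trc, map_add, map_mul, hσ.out]; ring

theorem nrm_fix (a : E) : σ (nrm σ a) = nrm σ a := by
  simp only [nrm, map_mul, hσ.out]; ring

end fix

section map

variable {E : Type u} [Field E] {σ : E ≃+* E} [hσ : Fact (∀ a : E, σ (σ (σ a)) = a)]
variable {G : Type*} [Group G] {x1 x2 x3 x4 x5 x6 : E → G}

theorem swap {a b k : G} (h : kk a b = k) : a * b = b * a * k := by
  rw [← h, kk]; group

theorem swap' {a b k : G} (h : kk a b = k) : b * a = a * b * k⁻¹ := by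
  rw [← h, kk]; group

variable (x2 x3 x4 x5 x6) in
/-- the element of the Heisenberg group -/
def hh (b c d e z : E) : G := x2 b * x3 c * x5 d * x6 e * x4 z

variable (h : HexRel σ x1 x2 x3 x4 x5 x6)

include h

theorem x2_zero : x2 0 = 1 := by
  have := h.add2 0 0 (map_zero _) (map_zero _)
  rw [add_zero] at this
  exact (left_eq_mul).1 this

theorem x3_zero : x3 0 = 1 := by
  have := h.add3 0 0
  rw [add_zero] at this
  exact (left_eq_mul).1 this

theorem x4_zero : x4 0 = 1 := by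
  have := h.add4 0 0 (map_zero _) (map_zero _)
  rw [add_zero] at this
  exact (left_eq_mul).1 this

theorem x5_zero : x5 0 = 1 := by
  have := h.add5 0 0
  rw [add_zero] at this
  exact (left_eq_mul).1 this

theorem x6_zero : x6 0 = 1 := by
  have := h.add6 0 0 (map_zero _) (map_zero _)
  rw [add_zero] at this
  exact (left_eq_mul).1 this

theorem x1_zero : x1 0 = 1 := by
  have := h.add1 0 0
  rw [add_zero] at this
  exact (left_eq_mul).1 this

theorem x2_neg {b : E} (hb : σ b = b) : (x2 b)⁻¹ = x2 (-b) := by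
  rw [inv_eq_iff_mul_eq_one, ← h.add2 _ _ hb (by rw [map_neg, hb]), add_neg_cancel, x2_zero h]

theorem x3_neg (b : E) : (x3 b)⁻¹ = x3 (-b) := by
  rw [inv_eq_iff_mul_eq_one, ← h.add3, add_neg_cancel, x3_zero h]

theorem x4_neg {b : E} (hb : σ b = b) : (x4 b)⁻¹ = x4 (-b) := by
  rw [inv_eq_iff_mul_eq_one, ← h.add4 _ _ hb (by rw [map_neg, hb]), add_neg_cancel, x4_zero h]

theorem x5_neg (b : E) : (x5 b)⁻¹ = x5 (-b) := by
  rw [inv_eq_iff_mul_eq_one, ← h.add5, add_neg_cancel, x5_zero h]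

theorem c42 {t u : E} (ht : σ t = t) (hu : σ u = u) : x4 u * x2 t = x2 t * x4 u := by
  rw [swap' (h.c24 t u ht hu), inv_one, mul_one]
theorem c43 {t a : E} (ht : σ t = t) : x4 t * x3 a = x3 a * x4 t := by
  rw [swap' (h.c34 a t ht), inv_one, mul_one]
theorem c45 {t a : E} (ht : σ t = t) : x4 t * x5 a = x5 a * x4 t := by
  rw [swap (h.c45 t a ht), mul_one]
theorem c46 {t u : E} (ht : σ t = t) (hu : σ u = u) : x4 t * x6 u = x6 u * x4 t := by
  rw [swap (h.c46 t u ht hu), mul_one]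
theorem c41 {t a : E} (ht : σ t = t) : x4 t * x1 a = x1 a * x4 t := by
  rw [swap' (h.c14 a t ht), inv_one, mul_one]
theorem c32 {t a : E} (ht : σ t = t) : x3 a * x2 t = x2 t * x3 a := by
  rw [swap' (h.c23 t a ht), inv_one, mul_one]
theorem c52 {t a : E} (ht : σ t = t) : x5 a * x2 t = x2 t * x5 a := by
  rw [swap' (h.c25 t a ht), inv_one, mul_one]
theorem c63 {t a : E} (ht : σ t = t) : x6 t * x3 a = x3 a * x6 t := by
  rw [swap' (h.c36 a t ht), inv_one, mul_one]
theorem c65 {t a : E} (ht : σ t = t) : x6 t * x5 a = x5 a * x6 t := by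
  rw [swap' (h.c56 a t ht), inv_one, mul_one]
theorem c62 {t u : E} (ht : σ t = t) (hu : σ u = u) : x6 u * x2 t = x2 t * x6 u * x4 (-(u * t)) := by
  have h1 : σ (t * u) = t * u := by rw [map_mul, ht, hu]
  rw [swap' (h.c26 t u ht hu), x4_neg h h1, mul_comm t u]
theorem c53 (a b : E) : x5 b * x3 a = x3 a * x5 b * x4 (-(trc σ b a)) := by
  rw [swap' (h.c35 a b), x4_neg h (trc_fix a b)]
  congr 3
  simp only [trc, mul_comm]

theorem hh_x2 {b c d e z t : E} (hb : σ b = b) (he : σ e = e) (hz : σ z = z) (ht : σ t = t) :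
    hh x2 x3 x4 x5 x6 b c d e z * x2 t = hh x2 x3 x4 x5 x6 (b + t) c d e (z - e * t) := by
  have h1 : σ (-(e * t)) = -(e * t) := by rw [map_neg, map_mul, he, ht]
  unfold hh
  calc x2 b * x3 c * x5 d * x6 e * x4 z * x2 t = x2 b * x3 c * x5 d * x6 e * (x4 z * x2 t) := by group
    _ = x2 b * x3 c * x5 d * (x6 e * x2 t) * x4 z := by rw [c42 h ht hz]; group
    _ = x2 b * x3 c * (x5 d * x2 t) * x6 e * (x4 (-(e * t)) * x4 z) := by rw [c62 h ht he]; group
    _ = x2 b * (x3 c * x2 t) * x5 d * x6 e * x4 (z - e * t) := by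
      rw [c52 h ht, ← h.add4 _ _ h1 hz]
      rw [show -(e * t) + z = z - e * t by ring]
      group
    _ = _ := by
      rw [c32 h ht, h.add2 _ _ hb ht]
      group

theorem hh_x3 {b c d e z a : E} (he : σ e = e) (hz : σ z = z) :
    hh x2 x3 x4 x5 x6 b c d e z * x3 a = hh x2 x3 x4 x5 x6 b (c + a) d e (z - trc σ d a) := by
  have h1 : σ (-(trc σ d a)) = -(trc σ d a) := by rw [map_neg, trc_fix]
  unfold hh
  calc x2 b * x3 c * x5 d * x6 e * x4 z * x3 a = x2 b * x3 c * x5 d * x6 e * (x4 z * x3 a) := by group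
    _ = x2 b * x3 c * x5 d * (x6 e * x3 a) * x4 z := by rw [c43 h hz]; group
    _ = x2 b * x3 c * (x5 d * x3 a) * x6 e * x4 z := by rw [c63 h he]; group
    _ = x2 b * x3 c * x3 a * x5 d * (x4 (-(trc σ d a)) * x6 e) * x4 z := by
      rw [c53 h]; group
    _ = x2 b * (x3 c * x3 a) * x5 d * x6 e * (x4 (-(trc σ d a)) * x4 z) := by
      rw [c46 h h1 he]; group
    _ = _ := by
      rw [← h.add4 _ _ h1 hz, ← h.add3, show -(trc σ d a) + z = z - trc σ d a by ring]

theorem hh_x5 {b c d e z a : E} (he : σ e = e) (hz : σ z = z) :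
    hh x2 x3 x4 x5 x6 b c d e z * x5 a = hh x2 x3 x4 x5 x6 b c (d + a) e z := by
  unfold hh
  calc x2 b * x3 c * x5 d * x6 e * x4 z * x5 a = x2 b * x3 c * x5 d * x6 e * (x4 z * x5 a) := by group
    _ = x2 b * x3 c * x5 d * (x6 e * x5 a) * x4 z := by rw [c45 h hz]; group
    _ = x2 b * x3 c * (x5 d * x5 a) * x6 e * x4 z := by rw [c65 h he]; group
    _ = _ := by rw [← h.add5]

theorem hh_x6 {b c d e z t : E} (he : σ e = e) (hz : σ z = z) (ht : σ t = t) :
    hh x2 x3 x4 x5 x6 b c d e z * x6 t = hh x2 x3 x4 x5 x6 b c d (e + t) z := by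
  unfold hh
  calc x2 b * x3 c * x5 d * x6 e * x4 z * x6 t = x2 b * x3 c * x5 d * x6 e * (x4 z * x6 t) := by group
    _ = x2 b * x3 c * x5 d * (x6 e * x6 t) * x4 z := by rw [c46 h hz ht]; group
    _ = _ := by rw [← h.add6 _ _ he ht]

theorem hh_x4 {b c d e z t : E} (hz : σ z = z) (ht : σ t = t) :
    hh x2 x3 x4 x5 x6 b c d e z * x4 t = hh x2 x3 x4 x5 x6 b c d e (z + t) := by
  unfold hh
  rw [h.add4 _ _ hz ht]
  group

/-- the product in the Heisenberg group -/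
theorem hh_mul {b c d e z b' c' d' e' z' : E} (hb : σ b = b) (he : σ e = e) (hz : σ z = z)
    (hb' : σ b' = b') (he' : σ e' = e') (hz' : σ z' = z') :
    hh x2 x3 x4 x5 x6 b c d e z * hh x2 x3 x4 x5 x6 b' c' d' e' z' =
      hh x2 x3 x4 x5 x6 (b + b') (c + c') (d + d') (e + e') (z + z' - e * b' - trc σ d c') := by
  have e1 : σ (z - e * b') = z - e * b' := by rw [map_sub, map_mul, hz, he, hb']
  have e2 : σ (z - e * b' - trc σ d c') = z - e * b' - trc σ d c' := by rw [map_sub, e1, trc_fix]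
  have e3 : σ (b + b') = b + b' := by rw [map_add, hb, hb']
  have e4 : σ (e + e') = e + e' := by rw [map_add, he, he']
  have : hh x2 x3 x4 x5 x6 b c d e z * hh x2 x3 x4 x5 x6 b' c' d' e' z' =
      ((((hh x2 x3 x4 x5 x6 b c d e z * x2 b') * x3 c') * x5 d') * x6 e') * x4 z' := by
    unfold hh; group
  rw [this, hh_x2 h hb he hz hb', hh_x3 h he e1, hh_x5 h he e2, hh_x6 h he e2 he', hh_x4 h e2 hz']
  congr 1
  ring

theorem x6_x1 {e : E} (he : σ e = e) (s : E) : x6 e * x1 s =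
    x1 s * hh x2 x3 x4 x5 x6 (e * nrm σ s) (-(e * shp σ s)) (e * s) e (e ^ 2 * nrm σ s) := by
  have f1 : σ (e * nrm σ s) = e * nrm σ s := by rw [map_mul, he, nrm_fix]
  have f2 : σ (-(e * nrm σ s)) = -(e * nrm σ s) := by rw [map_neg, f1]
  have f3 : σ (e ^ 2 * nrm σ s) = e ^ 2 * nrm σ s := by rw [map_mul, map_pow, he, nrm_fix]
  have f4 : σ (-(e ^ 2 * nrm σ s)) = -(e ^ 2 * nrm σ s) := by rw [map_neg, f3]
  have f0 : σ (0 : E) = 0 := map_zero _
  rw [swap' (h.c16 s e he)]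
  have k1 : (x2 (-(e * nrm σ s)) * x3 (e * shp σ s) * x4 (e ^ 2 * nrm σ s) * x5 (-(e * s)))⁻¹ =
      x5 (e * s) * x4 (-(e ^ 2 * nrm σ s)) * x3 (-(e * shp σ s)) * x2 (e * nrm σ s) := by
    simp only [mul_inv_rev]
    rw [x2_neg h f2, x3_neg h, x4_neg h f3, x5_neg h, neg_neg, neg_neg]
    group
  rw [k1, mul_assoc]
  congr 1
  have k2 : x6 e = hh x2 x3 x4 x5 x6 0 0 0 e 0 := by
    unfold hh
    rw [x2_zero h, x3_zero h, x5_zero h, x4_zero h]; group
  rw [k2, ← mul_assoc, ← mul_assoc, ← mul_assoc, hh_x5 h he f0, hh_x4 h f0 f4, hh_x3 h he (by rw [zero_add]; exact f4),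
    hh_x2 h f0 he ?_ f1]
  · have k3 : 0 + -(e ^ 2 * nrm σ s) - trc σ (0 + e * s) (-(e * shp σ s)) - e * (e * nrm σ s) = e ^ 2 * nrm σ s := by
      simp only [trc, nrm, shp, map_mul, map_neg, map_add, map_zero, he, hσ.out]
      ring
    rw [k3, zero_add, zero_add, zero_add]
  · rw [map_sub, trc_fix, map_add, f4, map_zero]

theorem x5_x1 (d s : E) : x5 d * x1 s =
    x1 s * hh x2 x3 x4 x5 x6 (trc σ (shp σ s) d) (-(crs σ s d)) d 0 (trc σ s (shp σ d)) := by
  have f1 : σ (trc σ (shp σ s) d) = trc σ (shp σ s) d := trc_fix _ _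
  have f2 : σ (-(trc σ (shp σ s) d)) = -(trc σ (shp σ s) d) := by rw [map_neg, f1]
  have f3 : σ (trc σ s (shp σ d)) = trc σ s (shp σ d) := trc_fix _ _
  have f4 : σ (-(trc σ s (shp σ d))) = -(trc σ s (shp σ d)) := by rw [map_neg, f3]
  have f0 : σ (0 : E) = 0 := map_zero _
  rw [swap' (h.c15 s d)]
  have k1 : (x2 (-(trc σ (shp σ s) d)) * x3 (crs σ s d) * x4 (trc σ s (shp σ d)))⁻¹ =
      x4 (-(trc σ s (shp σ d))) * x3 (-(crs σ s d)) * x2 (trc σ (shp σ s) d) := by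
    simp only [mul_inv_rev]
    rw [x2_neg h f2, x3_neg h, x4_neg h f3, neg_neg]
    group
  rw [k1, mul_assoc]
  congr 1
  have k2 : x5 d = hh x2 x3 x4 x5 x6 0 0 d 0 0 := by
    unfold hh
    rw [x2_zero h, x3_zero h, x6_zero h, x4_zero h]; group
  rw [k2, ← mul_assoc, ← mul_assoc, hh_x4 h f0 f4, hh_x3 h f0 (by rw [zero_add]; exact f4),
    hh_x2 h f0 f0 ?_ f1]
  · have k3 : 0 + -(trc σ s (shp σ d)) - trc σ d (-(crs σ s d)) - 0 * (trc σ (shp σ s) d) = trc σ s (shp σ d) := by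
      simp only [trc, crs, shp, map_mul, map_neg, map_add, map_zero, hσ.out]
      ring
    rw [k3, zero_add, zero_add]
  · rw [map_sub, trc_fix, map_add, f4, map_zero]

theorem x3_x1 (c s : E) : x3 c * x1 s = x1 s * hh x2 x3 x4 x5 x6 (-(trc σ s c)) c 0 0 0 := by
  rw [swap' (h.c13 s c), x2_neg h (trc_fix _ _), mul_assoc, c32 h (by rw [map_neg, trc_fix])]
  unfold hh
  rw [x5_zero h, x6_zero h, x4_zero h]; group

theorem x2_x1 {b : E} (hb : σ b = b) (s : E) : x2 b * x1 s = x1 s * hh x2 x3 x4 x5 x6 b 0 0 0 0 := by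
  rw [swap' (h.c12 s b hb), inv_one, mul_one]
  unfold hh
  rw [x3_zero h, x5_zero h, x6_zero h, x4_zero h]; group

theorem hh_x1 {b c d e z : E} (hb : σ b = b) (he : σ e = e) (hz : σ z = z) (s : E) :
    hh x2 x3 x4 x5 x6 b c d e z * x1 s = x1 s * hh x2 x3 x4 x5 x6
      (b - trc σ s c + trc σ (shp σ s) d + e * nrm σ s) (c - crs σ s d - e * shp σ s) (d + e * s) e
      (z + trc σ s (shp σ d) + e * trc σ (shp σ s) d + e ^ 2 * nrm σ s) := by
  have f0 : σ (0 : E) = 0 := map_zero _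
  have f1 : σ (-(trc σ s c)) = -(trc σ s c) := by rw [map_neg, trc_fix]
  have f2 : σ (trc σ (shp σ s) d) = trc σ (shp σ s) d := trc_fix _ _
  have f3 : σ (trc σ s (shp σ d)) = trc σ s (shp σ d) := trc_fix _ _
  have f4 : σ (e * nrm σ s) = e * nrm σ s := by rw [map_mul, he, nrm_fix]
  have f5 : σ (e ^ 2 * nrm σ s) = e ^ 2 * nrm σ s := by rw [map_mul, map_pow, he, nrm_fix]
  have k1 : hh x2 x3 x4 x5 x6 b c d e z * x1 s = x1 s * (hh x2 x3 x4 x5 x6 b 0 0 0 0 *
      hh x2 x3 x4 x5 x6 (-(trc σ s c)) c 0 0 0 *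
      hh x2 x3 x4 x5 x6 (trc σ (shp σ s) d) (-(crs σ s d)) d 0 (trc σ s (shp σ d)) *
      hh x2 x3 x4 x5 x6 (e * nrm σ s) (-(e * shp σ s)) (e * s) e (e ^ 2 * nrm σ s) * x4 z) := by
    have : hh x2 x3 x4 x5 x6 b c d e z = x2 b * x3 c * x5 d * x6 e * x4 z := rfl
    rw [this]
    calc x2 b * x3 c * x5 d * x6 e * x4 z * x1 s = x2 b * x3 c * x5 d * (x6 e * x1 s) * x4 z := by
          rw [mul_assoc, c41 h hz]; group
      _ = x2 b * x3 c * (x5 d * x1 s) *
          hh x2 x3 x4 x5 x6 (e * nrm σ s) (-(e * shp σ s)) (e * s) e (e ^ 2 * nrm σ s) * x4 z := by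
          rw [x6_x1 h he]; group
      _ = x2 b * (x3 c * x1 s) * hh x2 x3 x4 x5 x6 (trc σ (shp σ s) d) (-(crs σ s d)) d 0 (trc σ s (shp σ d)) *
          hh x2 x3 x4 x5 x6 (e * nrm σ s) (-(e * shp σ s)) (e * s) e (e ^ 2 * nrm σ s) * x4 z := by
          rw [x5_x1 h]; group
      _ = (x2 b * x1 s) * hh x2 x3 x4 x5 x6 (-(trc σ s c)) c 0 0 0 *
          hh x2 x3 x4 x5 x6 (trc σ (shp σ s) d) (-(crs σ s d)) d 0 (trc σ s (shp σ d)) *
          hh x2 x3 x4 x5 x6 (e * nrm σ s) (-(e * shp σ s)) (e * s) e (e ^ 2 * nrm σ s) * x4 z := by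
          rw [x3_x1 h]; group
      _ = _ := by rw [x2_x1 h hb]; group
  rw [k1, hh_mul h hb f0 f0 f1 f0 f0, hh_mul h (by rw [map_add, hb, f1]) (by rw [add_zero, f0])
    (by simp only [map_sub, map_add, map_mul, trc_fix, f0, f1]) f2 f0 f3,
    hh_mul h (by rw [map_add, map_add, hb, f1, f2]) (by simp) (by
      simp only [map_sub, map_add, map_mul, trc_fix, f0, f1, f2]) f4 he f5, hh_x4 h (by
      simp only [map_sub, map_add, map_mul, trc_fix, f0, f1, f2, f4, f5]) hz]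
  congr 1
  have g1 : b + -trc σ s c + trc σ (shp σ s) d + e * nrm σ s = b - trc σ s c + trc σ (shp σ s) d + e * nrm σ s := by
    ring
  have g2 : 0 + c + -crs σ s d + -(e * shp σ s) = c - crs σ s d - e * shp σ s := by ring
  have g3 : (0 : E) + 0 + d + e * s = d + e * s := by ring
  have g4 : (0 : E) + 0 + 0 + e = e := by ring
  rw [g1, g2, g3, g4]
  congr 1
  simp only [trc, nrm, shp, crs, map_mul, map_neg, map_add, map_zero, he, hσ.out]
  ring

end map

end Cfsg.Agent.H650.G.Rel
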