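import Cfsg.Agent.H650.GU.Iso
import Cfsg.Agent.H650.GU.Aut
import Cfsg.Agent.S1049
import Cfsg.Agent.S1080
import Cfsg.Agent.S1099

/-!
# S5211: `GU K` in `chevG2.group K`, torus, field and graph automorphisms, Weyl elements (helper650)
-/

set_option autoImplicit false

namespace Cfsg.Agent.H650.GR

open Cfsg Cfsg.Lie Cfsg.Agent.H779.G2 Cfsg.Agent.H650.GA
open Cfsg.Agent.ChevalleyStructure.Elts Cfsg.Agent.ChevalleyStructure.NConj
open Cfsg.Agent.ChevalleyStructure.WordCheck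
open Cfsg.Agent.Hexagon.G2Pos Cfsg.Agent.Hexagon.G2Side Cfsg.Agent.Hexagon.Words

universe u

variable {K : Type u} [Field K]

/-! ### root elements of `GU K` -/

def e1 (t : K) : GU K := ⟨t, 0, 0, 0, 0, 0⟩
def e2 (t : K) : GU K := ⟨0, t, 0, 0, 0, 0⟩
def e3 (t : K) : GU K := ⟨0, 0, t, 0, 0, 0⟩
def e4 (t : K) : GU K := ⟨0, 0, 0, t, 0, 0⟩
def e5 (t : K) : GU K := ⟨0, 0, 0, 0, t, 0⟩
def e6 (t : K) : GU K := ⟨0, 0, 0, 0, 0, t⟩

theorem eq_prod (g : GU K) : g = e1 g.a * (e5 g.e * e4 g.d * e3 g.c * e2 g.b *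
    e6 (g.f - 3 * g.d * g.c + g.e * g.b)) := by
  ext
  · simp [e1, e2, e3, e4, e5, e6]
  · simp [e1, e2, e3, e4, e5, e6]
  · simp [e1, e2, e3, e4, e5, e6]
  · simp [e1, e2, e3, e4, e5, e6]
  · simp [e1, e2, e3, e4, e5, e6]
  · simp only [e1, e2, e3, e4, e5, e6, GU.mul_a, GU.mul_b, GU.mul_c, GU.mul_d, GU.mul_e, GU.mul_f]; ring

theorem hom_ext {M : Type*} [Monoid M] {f g : GU K →* M} (h1 : ∀ t, f (e1 t) = g (e1 t)) (h2 : ∀ t, f (e2 t) = g (e2 t))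
    (h3 : ∀ t, f (e3 t) = g (e3 t)) (h4 : ∀ t, f (e4 t) = g (e4 t)) (h5 : ∀ t, f (e5 t) = g (e5 t))
    (h6 : ∀ t, f (e6 t) = g (e6 t)) : f = g := by
  ext x
  rw [eq_prod x]
  simp only [map_mul, h1, h2, h3, h4, h5, h6]

/-! ### the embedding -/

variable (K) in
/-- the embedding of `GU K` in the Chevalley group -/
noncomputable def ι : GU K →* ↥(chevG2.group K) := (G.toChev K).comp (G.isoH (F := K)).symm.toMonoidHom

theorem ι_injective [Finite K] : Function.Injective (ι K) :=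
  G.toChev_injective.comp (G.isoH (F := K)).symm.injective

theorem range_ι : (ι K).range = (G.toChev K).range := by
  unfold ι
  have h : ((G.isoH (F := K)).symm.toMonoidHom).range = ⊤ :=
    MonoidHom.range_eq_top.2 (show Function.Surjective ((G.isoH (F := K)).symm.toMonoidHom) from
      (G.isoH (F := K)).symm.surjective)
  rw [MonoidHom.range_comp, h, ← MonoidHom.range_eq_map]

theorem xG_eq' (r : ℕ) (t : K) : (Cfsg.Agent.ChevalleyStructure.G2N.xG r t : GL chevG2.Idx K) = xG hG2 r t :=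
  Cfsg.Agent.Hexagon.G2End.xG_eq r t

theorem xs_neg (r : ℕ) (t : K) : (xs r t : ↥(chevG2.group K))⁻¹ = xs r (-t) :=
  Subtype.ext (by rw [Subgroup.coe_inv, coe_xs, coe_xs, xG_inv])

theorem ι_aux (t : K) : ι K (e1 t) = xs 7 t ∧ ι K (e2 t) = xs 6 t ∧ ι K (e3 t) = xs 8 t ∧ ι K (e4 t) = xs 9 t ∧
    ι K (e5 t) = xs 10 (-t) ∧ ι K (e6 t) = xs 11 (-t) := by
  have P := Cfsg.Agent.Hexagon.G2End.hexPar (F := K)
  have f1 : ∀ t : K, (G.isoH (F := K)).symm (e1 t) = G.GU.x1 t := fun t => by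
    ext <;> simp [G.isoH_symm_apply, e1, G.GU.x1]
  have f2 : ∀ t : K, (G.isoH (F := K)).symm (e2 t) = G.GU.x6 t := fun t => by
    ext <;> simp [G.isoH_symm_apply, e2, G.GU.x6]
  have f3 : ∀ t : K, (G.isoH (F := K)).symm (e3 t) = G.GU.x5 t := fun t => by
    ext <;> simp [G.isoH_symm_apply, e3, G.GU.x5]
  have f4 : ∀ t : K, (G.isoH (F := K)).symm (e4 t) = G.GU.x3 (-t) := fun t => by
    ext <;> simp [G.isoH_symm_apply, e4, G.GU.x3]
  have f5 : ∀ t : K, (G.isoH (F := K)).symm (e5 t) = G.GU.x2 t := fun t => by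
    ext <;> simp [G.isoH_symm_apply, e5, G.GU.x2]
  have f6 : ∀ t : K, (G.isoH (F := K)).symm (e6 t) = G.GU.x4 (-t) := fun t => by
    ext <;> simp [G.isoH_symm_apply, e6, G.GU.x4]
  refine ⟨?_, ?_, ?_, ?_, ?_, ?_⟩
  · show G.toChev K ((G.isoH (F := K)).symm (e1 t)) = _
    rw [f1]
    refine (G.relHom_x P.rel t).1.trans (Subtype.ext ?_)
    show (Cfsg.Agent.ChevalleyStructure.G2N.xG 7 t : GL chevG2.Idx K) = _
    rw [xG_eq', coe_xs]
  · show G.toChev K ((G.isoH (F := K)).symm (e2 t)) = _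
    rw [f2]
    refine (G.relHom_x P.rel t).2.2.2.2.2.trans (Subtype.ext ?_)
    show (Cfsg.Agent.ChevalleyStructure.G2N.xG 6 t : GL chevG2.Idx K) = _
    rw [xG_eq', coe_xs]
  · show G.toChev K ((G.isoH (F := K)).symm (e3 t)) = _
    rw [f3]
    refine (G.relHom_x P.rel t).2.2.2.2.1.trans (Subtype.ext ?_)
    show (Cfsg.Agent.ChevalleyStructure.G2N.xG 8 t : GL chevG2.Idx K) = _
    rw [xG_eq', coe_xs]
  · show G.toChev K ((G.isoH (F := K)).symm (e4 t)) = _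
    rw [f4]
    refine (G.relHom_x P.rel (-t)).2.2.1.trans (Subtype.ext ?_)
    show (Cfsg.Agent.ChevalleyStructure.G2N.xG 9 (- -t) : GL chevG2.Idx K) = _
    rw [neg_neg, xG_eq', coe_xs]
  · show G.toChev K ((G.isoH (F := K)).symm (e5 t)) = _
    rw [f5]
    refine (G.relHom_x P.rel t).2.1.trans (Subtype.ext ?_)
    show (Cfsg.Agent.ChevalleyStructure.G2N.xG 10 (-t) : GL chevG2.Idx K) = _
    rw [xG_eq', coe_xs]
  · show G.toChev K ((G.isoH (F := K)).symm (e6 t)) = _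
    rw [f6]
    refine (G.relHom_x P.rel (-t)).2.2.2.1.trans (Subtype.ext ?_)
    show (Cfsg.Agent.ChevalleyStructure.G2N.xG 11 (-t) : GL chevG2.Idx K) = _
    rw [xG_eq', coe_xs]

theorem ι1 (t : K) : ι K (e1 t) = xs 7 t := (ι_aux t).1
theorem ι2 (t : K) : ι K (e2 t) = xs 6 t := (ι_aux t).2.1
theorem ι3 (t : K) : ι K (e3 t) = xs 8 t := (ι_aux t).2.2.1
theorem ι4 (t : K) : ι K (e4 t) = xs 9 t := (ι_aux t).2.2.2.1
theorem ι5 (t : K) : ι K (e5 t) = xs 10 (-t) := (ι_aux t).2.2.2.2.1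
theorem ι6 (t : K) : ι K (e6 t) = xs 11 (-t) := (ι_aux t).2.2.2.2.2

/-! ### automorphisms are determined by the root elements -/

theorem aut_ext {φ ψ : MulAut ↥(chevG2.group K)} (h : ∀ r < 12, ∀ t : K, φ (xs r t) = ψ (xs r t)) : φ = ψ := by
  have h1 : chevG2.group K ≤ (MonoidHom.eqLocus φ.toMonoidHom ψ.toMonoidHom).map (chevG2.group K).subtype := by
    rw [group_le_iff hG2]
    intro r hr t
    exact ⟨xs r t, h r hr t, rfl⟩
  ext1 x
  obtain ⟨y, hy, e⟩ := h1 x.2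
  have h2 : y = x := Subtype.ext e
  rw [← h2]
  exact hy

/-! ### torus and field automorphisms -/

/-- the coefficients of the roots on `α` -/
def cm (r : ℕ) : ℤ := [-3, -3, -2, -1, -1, 0, 0, 1, 1, 2, 3, 3].getD r 0

/-- the coefficients of the roots on `β` -/
def cn (r : ℕ) : ℤ := [-2, -1, -1, -1, 0, -1, 1, 0, 1, 1, 1, 2].getD r 0

/-- the automorphism of the Chevalley group belonging to `IsTor s t τ` -/
def IsTG (β : MulAut ↥(chevG2.group K)) (s t : K) (τ : K ≃+* K) : Prop :=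
  ∀ r < 12, ∀ u : K, β (xs r u) = xs r (s ^ cm r * t ^ cn r * τ u)

theorem IsTG.uniq {β β' : MulAut ↥(chevG2.group K)} {s t : K} {τ : K ≃+* K} (h : IsTG β s t τ) (h' : IsTG β' s t τ) :
    β = β' := aut_ext fun r hr u => by rw [h r hr, h' r hr]

theorem isTG_one : IsTG (1 : MulAut ↥(chevG2.group K)) 1 1 (RingEquiv.refl K) := fun r _ u => by
  rw [MulAut.one_apply, one_zpow, one_zpow, one_mul, one_mul, RingEquiv.refl_apply]

theorem IsTG.mul {β β' : MulAut ↥(chevG2.group K)} {s t s' t' : K} {τ τ' : K ≃+* K} (h : IsTG β s t τ)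
    (h' : IsTG β' s' t' τ') : IsTG (β * β') (s * τ s') (t * τ t') (τ'.trans τ) := fun r hr u => by
  rw [MulAut.mul_apply, h' r hr, h r hr, RingEquiv.trans_apply]
  congr 1
  rw [map_mul, map_mul, map_zpow₀, map_zpow₀, mul_zpow, mul_zpow]
  ring

theorem weights : ∀ r < 12, 2 * chevG2.cartan 0 r + 3 * chevG2.cartan 1 r = cm r ∧
    chevG2.cartan 0 r + 2 * chevG2.cartan 1 r = cn r := by decide +kernel

/-- conjugation by the element `h_α(c) h_β(d)` -/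
theorem h_conj {h : ↥(chevG2.group K)} {c d : K} (hc : c ≠ 0) (hd : d ≠ 0)
    (hh : ((h : GL chevG2.Idx K) : Matrix chevG2.Idx chevG2.Idx K) =
      chevG2.hMat K (chevG2.simple 0) c * chevG2.hMat K (chevG2.simple 1) d) {r : ℕ} (hr : r < 12) (u : K) :
    h * xs r u * h⁻¹ = xs r (c ^ chevG2.cartan 0 r * d ^ chevG2.cartan 1 r * u) := by
  rw [mul_inv_eq_iff_eq_mul]
  apply Subtype.ext
  apply Units.ext
  rw [Subgroup.coe_mul, Subgroup.coe_mul, Units.val_mul, Units.val_mul, coe_xs, coe_xs, coe_xG, coe_xG, hh, mul_assoc,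
    Cfsg.Agent.S1032.result (F := K) chevG2 hG2 1 r (by decide) hr d hd u, ← mul_assoc,
    Cfsg.Agent.S1032.result (F := K) chevG2 hG2 0 r (by decide) hr c hc, mul_assoc, mul_assoc (c ^ _)]

/-- the element `h_α(c) h_β(d)` -/
def hh (c d : K) : ↥(chevG2.group K) :=
  ⟨hG hG2 (chevG2.simple 0) c, hG_mem_group hG2 _ _⟩ * ⟨hG hG2 (chevG2.simple 1) d, hG_mem_group hG2 _ _⟩

theorem coe_hh (c d : K) : ((hh c d : GL chevG2.Idx K) : Matrix chevG2.Idx chevG2.Idx K) =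
      chevG2.hMat K (chevG2.simple 0) c * chevG2.hMat K (chevG2.simple 1) d := by
  unfold hh
  rw [Subgroup.coe_mul, Units.val_mul, coe_hG, coe_hG]

theorem isTG_conj {s t : K} (hs : s ≠ 0) (ht : t ≠ 0) {h : ↥(chevG2.group K)}
    (hh : ((h : GL chevG2.Idx K) : Matrix chevG2.Idx chevG2.Idx K) =
      chevG2.hMat K (chevG2.simple 0) (s ^ 2 * t) * chevG2.hMat K (chevG2.simple 1) (s ^ 3 * t ^ 2)) :
    IsTG (MulAut.conj h) s t (RingEquiv.refl K) := by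
  intro r hr u
  rw [MulAut.conj_apply, h_conj (mul_ne_zero (pow_ne_zero _ hs) ht)
    (mul_ne_zero (pow_ne_zero _ hs) (pow_ne_zero _ ht)) hh hr, RingEquiv.refl_apply]
  obtain ⟨w1, w2⟩ := weights r hr
  congr 2
  rw [← w1, ← w2, mul_zpow, mul_zpow, zpow_add₀ hs, zpow_add₀ ht, zpow_mul, zpow_mul, zpow_mul, zpow_ofNat, zpow_ofNat,
    zpow_ofNat]
  ring

theorem exists_isTG {s t : K} (hs : s ≠ 0) (ht : t ≠ 0) (τ : K ≃+* K) : ∃ β : MulAut ↥(chevG2.group K), IsTG β s t τ := by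
  obtain ⟨α, hα⟩ := Cfsg.Agent.S1080.result (F := K) chevG2 hG2 τ
  have h1 : IsTG α 1 1 τ := fun r hr u => by
    rw [one_zpow, one_zpow, one_mul, one_mul]
    apply Subtype.ext
    apply Units.ext
    rw [coe_xs, coe_xG]
    exact hα (xs r u) r u hr (by rw [coe_xs, coe_xG])
  have h2 := isTG_conj hs ht (coe_hh (s ^ 2 * t) (s ^ 3 * t ^ 2))
  have h3 := h2.mul h1
  simp only [RingEquiv.refl_apply, mul_one] at h3
  have e : τ.trans (RingEquiv.refl K) = τ := by ext x; rfl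
  rw [e] at h3
  exact ⟨_, h3⟩

theorem IsTG.inv {β : MulAut ↥(chevG2.group K)} {s t : K} {τ : K ≃+* K} (hs : s ≠ 0) (ht : t ≠ 0) (h : IsTG β s t τ) :
    IsTG β⁻¹ (τ.symm s⁻¹) (τ.symm t⁻¹) τ.symm := by
  have h1 : τ.symm s⁻¹ ≠ 0 := (map_ne_zero τ.symm).2 (inv_ne_zero hs)
  have h2 : τ.symm t⁻¹ ≠ 0 := (map_ne_zero τ.symm).2 (inv_ne_zero ht)
  obtain ⟨β', k⟩ := exists_isTG h1 h2 τ.symm
  have h3 : β * β' = 1 := by
    apply IsTG.uniq (s := 1) (t := 1) (τ := RingEquiv.refl K) _ isTG_one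
    have := h.mul k
    rw [τ.apply_symm_apply, τ.apply_symm_apply, mul_inv_cancel₀ hs, mul_inv_cancel₀ ht] at this
    have e : τ.symm.trans τ = RingEquiv.refl K := by ext x; simp
    rwa [e] at this
  rw [inv_eq_of_mul_eq_one_right h3]
  exact k

/-! ### the graph automorphism -/

/-- the permutation of the roots -/
def gp (r : ℕ) : ℕ := [2, 3, 0, 1, 5, 4, 7, 6, 10, 11, 8, 9].getD r 0

/-- the exponents -/
def ge (r : ℕ) : ℕ := [1, 1, 3, 3, 3, 1, 1, 3, 3, 3, 1, 1].getD r 0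

/-- the graph automorphism of the Chevalley group -/
def IsGG (β : MulAut ↥(chevG2.group K)) : Prop := ∀ r < 12, ∀ u : K, β (xs r u) = xs (gp r) (u ^ ge r)

theorem exists_isGG [Finite K] (h3 : (3 : K) = 0) : ∃ β : MulAut ↥(chevG2.group K), IsGG β := by
  have := charP_three h3
  have : Fact (Nat.Prime 3) := ⟨Nat.prime_three⟩
  have hperf : ∀ x : K, ∃ y : K, y ^ 3 = x := fun x => by
    obtain ⟨y, hy⟩ := (frobeniusEquiv K 3).surjective x
    exact ⟨y, hy⟩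
  obtain ⟨α, hα⟩ := Cfsg.Agent.ChevalleyStructure.GraphG2.exists_graph (K := K) hperf
  refine ⟨α, fun r hr u => ?_⟩
  apply Subtype.ext
  apply Units.ext
  rw [coe_xs, coe_xG]
  exact hα (xs r u) r u hr (by rw [coe_xs, coe_xG])

theorem IsGG.uniq {β β' : MulAut ↥(chevG2.group K)} (h : IsGG β) (h' : IsGG β') : β = β' :=
  aut_ext fun r hr u => by rw [h r hr, h' r hr]

theorem gp_facts : ∀ r < 12, gp r < 12 ∧ gp (gp r) = r ∧ ge r * ge (gp r) = 3 ∧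
    3 * cn (gp r) = ge r * cm r ∧ cm (gp r) = ge r * cn r := by decide +kernel

theorem IsGG.sq {β : MulAut ↥(chevG2.group K)} (h : IsGG β) {τ : K ≃+* K} (hτ : ∀ x, τ x = x ^ 3) :
    IsTG (β * β) 1 1 τ := fun r hr u => by
  obtain ⟨g1, g2, g3, -, -⟩ := gp_facts r hr
  rw [MulAut.mul_apply, h r hr, h _ g1, g2, ← pow_mul, g3, one_zpow, one_zpow, one_mul, one_mul, hτ]

theorem IsGG.comm {ρ α β : MulAut ↥(chevG2.group K)} (h : IsGG ρ) {s t : K} {τ : K ≃+* K}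
    (k : IsTG α s t τ) (k' : IsTG β t (s ^ 3) τ) : ρ * α = β * ρ := by
  apply aut_ext
  intro r hr u
  obtain ⟨g1, g2, g3, g4, g5⟩ := gp_facts r hr
  rw [MulAut.mul_apply, MulAut.mul_apply, k r hr, h r hr, h r hr, k' _ g1]
  congr 1
  rw [mul_pow, mul_pow, map_pow]
  congr 1
  have e1 : (s ^ cm r) ^ ge r = (s ^ 3) ^ cn (gp r) := by
    rw [← zpow_natCast, ← zpow_mul, ← zpow_natCast, ← zpow_mul, mul_comm (cm r), ← g4]
    rfl
  have e2 : (t ^ cn r) ^ ge r = t ^ cm (gp r) := by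
    rw [← zpow_natCast, ← zpow_mul, mul_comm (cn r), ← g5]
  rw [e1, e2, mul_comm]

/-! ### compatibility with the embedding -/

theorem cov_of {α : MulAut (GU K)} {β : MulAut ↥(chevG2.group K)} (h1 : ∀ t, β (xs 7 t) = ι K (α (e1 t)))
    (h2 : ∀ t, β (xs 6 t) = ι K (α (e2 t))) (h3 : ∀ t, β (xs 8 t) = ι K (α (e3 t)))
    (h4 : ∀ t, β (xs 9 t) = ι K (α (e4 t))) (h5 : ∀ t, β (xs 10 (-t)) = ι K (α (e5 t)))
    (h6 : ∀ t, β (xs 11 (-t)) = ι K (α (e6 t))) (x : GU K) : β (ι K x) = ι K (α x) := by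
  have : β.toMonoidHom.comp (ι K) = (ι K).comp α.toMonoidHom := by
    apply hom_ext <;> intro t
    · show β (ι K (e1 t)) = _
      rw [ι1, h1]; rfl
    · show β (ι K (e2 t)) = _
      rw [ι2, h2]; rfl
    · show β (ι K (e3 t)) = _
      rw [ι3, h3]; rfl
    · show β (ι K (e4 t)) = _
      rw [ι4, h4]; rfl
    · show β (ι K (e5 t)) = _
      rw [ι5, h5]; rfl
    · show β (ι K (e6 t)) = _
      rw [ι6, h6]; rfl
  exact DFunLike.congr_fun this x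

theorem tor_e {α : MulAut (GU K)} {s t : K} {τ : K ≃+* K} (h : IsTor α s t τ) (u : K) :
    α (e1 u) = e1 (s * τ u) ∧ α (e2 u) = e2 (t * τ u) ∧ α (e3 u) = e3 (s * t * τ u) ∧
    α (e4 u) = e4 (s ^ 2 * t * τ u) ∧ α (e5 u) = e5 (s ^ 3 * t * τ u) ∧ α (e6 u) = e6 (s ^ 3 * t ^ 2 * τ u) := by
  refine ⟨?_, ?_, ?_, ?_, ?_, ?_⟩ <;>
  · ext <;> simp [h.a, h.b, h.c, h.d, h.e, h.f, e1, e2, e3, e4, e5, e6]

theorem cov_tor {α : MulAut (GU K)} {β : MulAut ↥(chevG2.group K)} {s t : K} {τ : K ≃+* K} (h : IsTor α s t τ)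
    (k : IsTG β s t τ) (x : GU K) : β (ι K x) = ι K (α x) := by
  have c6 : cm 6 = 0 ∧ cn 6 = 1 := by decide
  have c7 : cm 7 = 1 ∧ cn 7 = 0 := by decide
  have c8 : cm 8 = 1 ∧ cn 8 = 1 := by decide
  have c9 : cm 9 = 2 ∧ cn 9 = 1 := by decide
  have c10 : cm 10 = 3 ∧ cn 10 = 1 := by decide
  have c11 : cm 11 = 3 ∧ cn 11 = 2 := by decide
  apply cov_of <;> intro u
  · rw [(tor_e h u).1, ι1, k 7 (by norm_num), c7.1, c7.2, zpow_one, zpow_zero, mul_one]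
  · rw [(tor_e h u).2.1, ι2, k 6 (by norm_num), c6.1, c6.2, zpow_one, zpow_zero, one_mul]
  · rw [(tor_e h u).2.2.1, ι3, k 8 (by norm_num), c8.1, c8.2, zpow_one, zpow_one]
  · rw [(tor_e h u).2.2.2.1, ι4, k 9 (by norm_num), c9.1, c9.2, zpow_one, zpow_ofNat]
  · rw [(tor_e h u).2.2.2.2.1, ι5, k 10 (by norm_num), c10.1, c10.2, zpow_one, zpow_ofNat, map_neg, mul_neg]
  · rw [(tor_e h u).2.2.2.2.2, ι6, k 11 (by norm_num), c11.1, c11.2, zpow_ofNat, zpow_ofNat, map_neg, mul_neg]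

theorem gr_e {ρ : MulAut (GU K)} (h : IsGr ρ) (u : K) :
    ρ (e1 u) = e2 (u ^ 3) ∧ ρ (e2 u) = e1 u ∧ ρ (e3 u) = e5 (- u ^ 3) ∧
    ρ (e4 u) = e6 (- u ^ 3) ∧ ρ (e5 u) = e3 (-u) ∧ ρ (e6 u) = e4 (-u) := by
  refine ⟨?_, ?_, ?_, ?_, ?_, ?_⟩ <;>
  · ext <;> simp [h.a, h.b, h.c, h.d, h.e, h.f, e1, e2, e3, e4, e5, e6]

theorem cov_gr {ρ : MulAut (GU K)} {β : MulAut ↥(chevG2.group K)} (h : IsGr ρ) (k : IsGG β) (x : GU K) :
    β (ι K x) = ι K (ρ x) := by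
  have c6 : gp 6 = 7 ∧ ge 6 = 1 := by decide
  have c7 : gp 7 = 6 ∧ ge 7 = 3 := by decide
  have c8 : gp 8 = 10 ∧ ge 8 = 3 := by decide
  have c9 : gp 9 = 11 ∧ ge 9 = 3 := by decide
  have c10 : gp 10 = 8 ∧ ge 10 = 1 := by decide
  have c11 : gp 11 = 9 ∧ ge 11 = 1 := by decide
  apply cov_of <;> intro u
  · rw [(gr_e h u).1, ι2, k 7 (by norm_num), c7.1, c7.2]
  · rw [(gr_e h u).2.1, ι1, k 6 (by norm_num), c6.1, c6.2, pow_one]
  · rw [(gr_e h u).2.2.1, ι5, k 8 (by norm_num), c8.1, c8.2, neg_neg]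
  · rw [(gr_e h u).2.2.2.1, ι6, k 9 (by norm_num), c9.1, c9.2, neg_neg]
  · rw [(gr_e h u).2.2.2.2.1, ι3, k 10 (by norm_num), c10.1, c10.2, pow_one]
  · rw [(gr_e h u).2.2.2.2.2, ι4, k 11 (by norm_num), c11.1, c11.2, pow_one]

end Cfsg.Agent.H650.GR
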