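import Cfsg.Agent.H650.GU.Real
import Cfsg.Agent.H24.Q5.Fus
import Cfsg.Agent.S1044
import Cfsg.Agent.S1035

/-!
# S5211, block q = 5: the row `G₂(5)` (helper650)
-/

set_option autoImplicit false

namespace Cfsg.Agent.H650.GR

open Cfsg Cfsg.FusionSystem Cfsg.Lie Cfsg.Agent.H756.PU Cfsg.Agent.H779.G2 Cfsg.Agent.H650.GA
open Cfsg.Agent.ChevalleyStructure.Elts Cfsg.Agent.ChevalleyStructure.NConj
open Cfsg.Agent.ChevalleyStructure.WordCheck
open Cfsg.Agent.Hexagon.G2Pos Cfsg.Agent.Hexagon.G2Side Cfsg.Agent.Hexagon.Words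

open scoped Pointwise

universe u

variable {K : Type u} [Field K]

theorem coe_nn : ((nn 7 4 : ↥(chevG2.group K)) : GL chevG2.Idx K) = nG hG2 7 1 := by
  have e : chevG2.neg 7 = 4 := by decide +kernel
  rw [nG_def, e]
  unfold nn
  rw [Subgroup.coe_mul, Subgroup.coe_mul, coe_xs, coe_xs, inv_one]

/-- the Borel subgroup -/
theorem borel_eq : (chevG2.borelSubgroup K : Set (GL chevG2.Idx K)) =
      (chevG2.posUnipotent K : Set (GL chevG2.Idx K)) * (chevG2.diagonalSubgroup K : Set (GL chevG2.Idx K)) :=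
    Subgroup.coe_mul_of_right_le_normalizer_left _ _ (Cfsg.Agent.S1036.result (F := K) chevG2 hG2).1

theorem card_borel [Finite K] : Nat.card (chevG2.borelSubgroup K) = Nat.card K ^ 6 * (Nat.card K - 1) ^ 2 := by
  have := Fintype.ofFinite K
  have h1 := Cfsg.Agent.S1027.result (F := K) chevG2 hG2
  have h2 : chevG2.nroots / 2 = 6 := by decide +kernel
  rw [h2, ← Nat.card_eq_fintype_card] at h1
  have h3 := Cfsg.Agent.S1035.result (F := K) (Nat.card_eq_fintype_card (α := K)).symm (chevG2, 1) (by simp)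
  have h4 : chevG2.rank = 2 := by decide +kernel
  simp only [one_mul, h4] at h3
  rw [← h1, ← h3]
  have hd := (Cfsg.Agent.S1036.result (F := K) chevG2 hG2).2
  let f : chevG2.posUnipotent K × chevG2.diagonalSubgroup K → chevG2.borelSubgroup K := fun x =>
    ⟨x.1 * x.2, Subgroup.mul_mem _ (le_sup_left (a := chevG2.posUnipotent K) x.1.2)
      (le_sup_right (a := chevG2.posUnipotent K) x.2.2)⟩
  have hf : Function.Bijective f := by
    constructor
    · rintro ⟨u, h⟩ ⟨u', h'⟩ e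
      have e1 : (u : GL chevG2.Idx K) * h = u' * h' := congrArg Subtype.val e
      have e2 : (u' : GL chevG2.Idx K)⁻¹ * u = h' * (h : GL chevG2.Idx K)⁻¹ := by
        rw [inv_mul_eq_iff_eq_mul, ← mul_assoc, ← e1, mul_inv_cancel_right]
      have e3 : (u' : GL chevG2.Idx K)⁻¹ * u ∈ chevG2.posUnipotent K ⊓ chevG2.diagonalSubgroup K :=
        ⟨Subgroup.mul_mem _ (Subgroup.inv_mem _ u'.2) u.2, by
          rw [e2]; exact Subgroup.mul_mem _ h'.2 (Subgroup.inv_mem _ h.2)⟩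
      rw [hd, Subgroup.mem_bot] at e3
      have e4 : (u : GL chevG2.Idx K) = u' := (inv_mul_eq_one.1 e3).symm
      have e5 : (h : GL chevG2.Idx K) = h' := by
        rw [e4] at e1
        exact mul_left_cancel e1
      exact Prod.ext (Subtype.ext e4) (Subtype.ext e5)
    · rintro ⟨b, hb⟩
      have hb' : b ∈ (chevG2.borelSubgroup K : Set (GL chevG2.Idx K)) := hb
      rw [borel_eq] at hb'
      obtain ⟨u, hu, h, hh, e⟩ := hb'
      exact ⟨(⟨u, hu⟩, ⟨h, hh⟩), Subtype.ext e⟩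
  rw [← Nat.card_congr (Equiv.ofBijective f hf), Nat.card_prod]

theorem ι_mem_borel (x : GU K) : ((ι K x : ↥(chevG2.group K)) : GL chevG2.Idx K) ∈ chevG2.borelSubgroup K := by
  refine le_sup_left (a := chevG2.posUnipotent K) ?_
  rw [← map_range]
  exact ⟨_, ⟨x, rfl⟩, rfl⟩

/-- the subgroup `Q_a` in `GL` -/
theorem radical_a : ((Qa K).map (ι K)).map (chevG2.group K).subtype = chevG2.unipotentRadical K {0} := by
  have hneg : ∀ r < 12, chevG2.IsPosRoot r → (r = 7 ∨ (∃ i < 2, i ≠ 0 ∧ (chevG2.coroot.getD r #[]).getD i 0 ≠ 0)) := by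
    decide +kernel
  apply le_antisymm
  · rintro _ ⟨_, ⟨x, hx, rfl⟩, rfl⟩
    have hx0 : x.a = 0 := hx
    have e1 := eq_prod x
    rw [hx0] at e1
    have e2 : (GR.e1 (0 : K)) = 1 := rfl
    rw [e2, one_mul] at e1
    rw [e1]
    have hin : ∀ r : ℕ, (r = 6 ∨ r = 8 ∨ r = 9 ∨ r = 10 ∨ r = 11) → ∀ t : K,
        ((xs r t : ↥(chevG2.group K)) : GL chevG2.Idx K) ∈ chevG2.unipotentRadical K {0} := by
      intro r hr t
      have h1 : chevG2.IsPosRoot r := by
        rcases hr with rfl | rfl | rfl | rfl | rfl <;> decide +kernel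
      have h2 : ∃ i < 2, i ≠ 0 ∧ (chevG2.coroot.getD r #[]).getD i 0 ≠ 0 := by
        rcases hneg r h1.1 h1 with h | h
        · omega
        · exact h
      refine Subgroup.subset_closure ⟨r, t, h1, ?_, by rw [coe_xs, coe_xG]⟩
      rintro ⟨-, h4⟩
      obtain ⟨i, hi, hi0, h5⟩ := h2
      exact h5 (h4 i hi (by simpa using hi0))
    simp only [map_mul, ι2, ι3, ι4, ι5, ι6]
    exact Subgroup.mul_mem _ (Subgroup.mul_mem _ (Subgroup.mul_mem _
      (Subgroup.mul_mem _ (hin _ (by norm_num) _) (hin _ (by norm_num) _)) (hin _ (by norm_num) _))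
      (hin _ (by norm_num) _)) (hin _ (by norm_num) _)
  · unfold ChevalleyDatum.unipotentRadical
    rw [Subgroup.closure_le]
    rintro g ⟨r, t, h1, h2, h3⟩
    have h7 : r ≠ 7 := by
      rintro rfl
      apply h2
      refine ⟨h1.1, ?_⟩
      intro i hi hi0
      have hi' : i = 1 := by
        have : i < 2 := hi
        have h0 : i ≠ 0 := by simpa using hi0
        omega
      subst hi'
      decide +kernel
    have h8 : r = 6 ∨ r = 8 ∨ r = 9 ∨ r = 10 ∨ r = 11 := by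
      have : ∀ r < 12, chevG2.IsPosRoot r → r ≠ 7 → (r = 6 ∨ r = 8 ∨ r = 9 ∨ r = 10 ∨ r = 11) := by decide +kernel
      exact this r h1.1 h1 h7
    have h9 : g = ((xs r t : ↥(chevG2.group K)) : GL chevG2.Idx K) := by
      apply Units.ext
      rw [coe_xs, coe_xG]
      exact h3
    rw [h9]
    refine ⟨xs r t, ?_, rfl⟩
    rcases h8 with rfl | rfl | rfl | rfl | rfl
    · exact ⟨e2 t, rfl, ι2 t⟩
    · exact ⟨e3 t, rfl, ι3 t⟩
    · exact ⟨e4 t, rfl, ι4 t⟩
    · exact ⟨e5 (-t), rfl, by rw [ι5, neg_neg]⟩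
    · exact ⟨e6 (-t), rfl, by rw [ι6, neg_neg]⟩

/-- the normalizer of `Q_a` has order `k |B|`, `k ≤ q + 1` -/
theorem normalizer_a [Finite K] : ∃ k, 1 ≤ k ∧ k ≤ Nat.card K + 1 ∧
    Nat.card (Subgroup.normalizer ((Qa K).map (ι K) : Set ↥(chevG2.group K))) ∣
      Nat.card K ^ 6 * (Nat.card K - 1) ^ 2 * k := by
  have hfin : Finite (GL chevG2.Idx K) := inferInstance
  have e70 : chevG2.simple 0 = 7 := by decide +kernel
  obtain ⟨P, hP⟩ := Cfsg.Agent.S1044.result (F := K) chevG2 hG2 0 (by decide) (nG hG2 7 1) (by rw [coe_nG, e70])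
  have hBP : chevG2.borelSubgroup K ≤ P := by
    intro b hb
    have : b ∈ (P : Set (GL chevG2.Idx K)) := by rw [hP]; exact Or.inl hb
    exact this
  -- the cardinality of `P`
  have hcard : Nat.card P ≤ Nat.card (chevG2.borelSubgroup K) * (Nat.card K + 1) := by
    have hsurj : ∀ x ∈ P, ∃ y : chevG2.borelSubgroup K × Option K,
        x = (y.1 : GL chevG2.Idx K) * (y.2.elim 1 (fun t => nG hG2 7 1 * xG hG2 7 t)) := by
      intro x hx
      have hx' : x ∈ (P : Set (GL chevG2.Idx K)) := hx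
      rw [hP] at hx'
      rcases hx' with hx' | hx'
      · exact ⟨(⟨x, hx'⟩, none), by simp⟩
      · rw [DoubleCoset.mem_doubleCoset] at hx'
        obtain ⟨b, hb, b', hb', rfl⟩ := hx'
        rw [borel_eq] at hb'
        obtain ⟨v, hv, h, hh, rfl⟩ := hb'
        have hv' : v ∈ (ι K).range.map (chevG2.group K).subtype := by rw [map_range]; exact hv
        obtain ⟨_, ⟨g, rfl⟩, rfl⟩ := hv'
        -- `g = q * e1 a`
        let q : Qa K := ⟨g * e1 (-g.a), by show (g * e1 (-g.a)).a = 0; simp [e1]⟩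
        have hq : g = (q : GU K) * e1 g.a := by
          have : e1 (-g.a) * e1 g.a = (1 : GU K) := by
            ext <;> simp [e1]
          show g = g * e1 (-g.a) * e1 g.a
          rw [mul_assoc, this, mul_one]
        have hhi : h⁻¹ ∈ chevG2.diagonalSubgroup K := Subgroup.inv_mem _ hh
        obtain ⟨c, -, hc⟩ := Cfsg.Agent.ChevalleyStructure.BNChev.diagonal_conj hG2 hhi (s := 7) (by decide)
        have hc' := hc g.a
        rw [inv_inv] at hc'
        have hnh : nG hG2 7 (1 : K) * h * (nG hG2 7 (1 : K))⁻¹ ∈ chevG2.diagonalSubgroup K :=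
          conj_mem_diagonal hG2 (nG_mem_monomial hG2 (by decide) one_ne_zero) hh
        have hwa := map_isWa (isWa_waE (K := K)) q
        have hwa' : nG hG2 7 (1 : K) * ((ι K (q : GU K) : ↥(chevG2.group K)) : GL chevG2.Idx K) * (nG hG2 7 (1 : K))⁻¹ =
            ((ι K ((waE q : Qa K) : GU K) : ↥(chevG2.group K)) : GL chevG2.Idx K) := by
          rw [← coe_nn, ← hwa]
          rfl
        refine ⟨(⟨b * ((ι K ((waE q : Qa K) : GU K) : ↥(chevG2.group K)) : GL chevG2.Idx K) *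
          (nG hG2 7 (1 : K) * h * (nG hG2 7 (1 : K))⁻¹), ?_⟩, some (c * g.a)), ?_⟩
        · exact Subgroup.mul_mem _ (Subgroup.mul_mem _ hb (ι_mem_borel _))
            (le_sup_right (a := chevG2.posUnipotent K) hnh)
        · have hg : ((ι K g : ↥(chevG2.group K)) : GL chevG2.Idx K) =
              ((ι K (q : GU K) : ↥(chevG2.group K)) : GL chevG2.Idx K) * xG hG2 7 g.a := by
            conv_lhs => rw [hq]
            rw [map_mul, Subgroup.coe_mul, ι1, coe_xs]
          show b * nG hG2 7 1 * (((ι K g : ↥(chevG2.group K)) : GL chevG2.Idx K) * h) =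
            b * ((ι K ((waE q : Qa K) : GU K) : ↥(chevG2.group K)) : GL chevG2.Idx K) *
              (nG hG2 7 (1 : K) * h * (nG hG2 7 (1 : K))⁻¹) * (nG hG2 7 1 * xG hG2 7 (c * g.a))
          rw [hg, ← hwa', ← hc']
          group
    let f : chevG2.borelSubgroup K × Option K → GL chevG2.Idx K := fun y =>
      (y.1 : GL chevG2.Idx K) * (y.2.elim 1 (fun t => nG hG2 7 1 * xG hG2 7 t))
    have h1 : (P : Set (GL chevG2.Idx K)) ⊆ Set.range f := by
      intro x hx
      obtain ⟨y, hy⟩ := hsurj x hx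
      exact ⟨y, hy.symm⟩
    have h2 : Nat.card P ≤ Nat.card (Set.range f) := Nat.card_le_card_of_injective (fun x : P =>
      (⟨x, h1 x.2⟩ : Set.range f)) (fun a b hab => Subtype.ext (congrArg (fun z : Set.range f => (z : GL chevG2.Idx K)) hab))
    refine h2.trans ((Finite.card_range_le f).trans ?_)
    rw [Nat.card_prod, Finite.card_option]
  have hdvd : Nat.card (chevG2.borelSubgroup K) ∣ Nat.card P := Subgroup.card_dvd_of_le hBP
  obtain ⟨k, hk⟩ := hdvd
  have hB : 0 < Nat.card (chevG2.borelSubgroup K) := Nat.card_pos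
  have hPpos : 0 < Nat.card P := Nat.card_pos
  refine ⟨k, ?_, ?_, ?_⟩
  · rcases Nat.eq_zero_or_pos k with h | h
    · rw [h, mul_zero] at hk; omega
    · exact h
  · rw [hk] at hcard
    exact Nat.le_of_mul_le_mul_left hcard hB
  · rw [← card_borel, ← hk]
    have h1 : (Subgroup.normalizer ((Qa K).map (ι K) : Set ↥(chevG2.group K))).map (chevG2.group K).subtype ≤ P := by
      rintro _ ⟨g, hg, rfl⟩
      have h2 : (g : GL chevG2.Idx K) ∈ chevG2.parabolicSubgroup K {0} := by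
        rw [← Cfsg.Agent.S1049.result (F := K) chevG2 hG2 {0} (fun j hj => by
          rw [Set.mem_singleton_iff] at hj; subst hj; decide)]
        refine ⟨?_, g.2⟩
        rw [← radical_a]
        have : Finite ↥((((Qa K).map (ι K)).map (chevG2.group K).subtype : Subgroup (GL chevG2.Idx K)) :
          Set (GL chevG2.Idx K)) := inferInstance
        apply Subgroup.mem_normalizer_fintype
        rintro _ ⟨x, hx, rfl⟩
        exact ⟨g * x * g⁻¹, ((hg : g ∈ Subgroup.normalizer _) x).1 hx, rfl⟩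
      have h3 : chevG2.parabolicSubgroup K {0} ≤ P := by
        refine sup_le hBP ((Subgroup.closure_le _).2 ?_)
        rintro x ⟨j, hj, -, hx⟩
        rw [Set.mem_singleton_iff] at hj
        subst hj
        have hx' : x = nG hG2 7 1 := by
          apply Units.ext
          rw [hx, coe_nG, e70]
        have : x ∈ (P : Set (GL chevG2.Idx K)) := by
          rw [hP, hx']
          exact Or.inr (DoubleCoset.mem_doubleCoset.2 ⟨1, Subgroup.one_mem _, 1, Subgroup.one_mem _, by simp⟩)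
        exact this
      exact h3 h2
    rw [Nat.card_congr ((Subgroup.normalizer ((Qa K).map (ι K) : Set ↥(chevG2.group K))).equivMapOfInjective _
      (chevG2.group K).subtype_injective).toEquiv]
    exact Subgroup.card_dvd_of_le h1

/-- the element of order three -/
def yy : ↥(chevG2.group K) := nn 7 4 * xs 7 1

theorem yy_pow : (yy : ↥(chevG2.group K)) ^ 3 = 1 := by
  have h : check chevG2 0 0 1 (xw ((nw 7 4 ++ [(7, .const 1)]) ++ ((nw 7 4 ++ [(7, .const 1)]) ++
      (nw 7 4 ++ [(7, .const 1)])))) (xw []) = true := by decide +kernel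
  have h1 := gval_eq hG2 (rho (1 : K) 1) 1 h
  have h2 : gval hG2 (rho (1 : K) 1) (nw 7 4) * gval hG2 (rho (1 : K) 1) [(7, .const 1)] =
      ((yy : ↥(chevG2.group K)) : GL chevG2.Idx K) := by
    unfold nw yy nn
    simp only [gval_cons, gval_nil, mul_one, Subgroup.coe_mul, coe_xs]
    simp [PExpr.denote]
  simp only [gval_append, h2, gval_nil] at h1
  apply Subtype.ext
  rw [pow_succ, pow_two, Subgroup.coe_mul, Subgroup.coe_mul, mul_assoc, h1]
  rfl

theorem yy_conj (x : Qa K) : ∃ y : Qa K, yy * ι K (x : GU K) * (yy)⁻¹ = ι K (y : GU K) ∧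
    ((x : GU K) = e5 1 → (y : GU K) = e2 1) := by
  let z : Qa K := ⟨e1 (1 : K) * (x : GU K) * (e1 (1 : K))⁻¹, by
    have h0 : (x : GU K).a = 0 := x.2
    show (e1 1 * (x : GU K) * (e1 1)⁻¹).a = 0
    simp [h0]⟩
  refine ⟨waE z, ?_, ?_⟩
  · rw [← map_isWa isWa_waE]
    show _ = nn 7 4 * ι K (e1 (1 : K) * (x : GU K) * (e1 (1 : K))⁻¹) * (nn 7 4)⁻¹
    rw [map_mul, map_mul, map_inv, ι1]
    unfold yy
    group
  · intro hx
    have hz : z = ⟨e5 1, rfl⟩ := by
      apply Subtype.ext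
      show e1 (1 : K) * (x : GU K) * (e1 (1 : K))⁻¹ = e5 1
      rw [hx]
      ext <;> simp [e1, e5]
    rw [hz]
    ext <;> simp [waE, e2, e5]

theorem exists_e [Finite K] : ∃ e : (ι K).range ≃* GU K, ∀ x : (ι K).range, ι K (e x) = x := by
  refine ⟨(MonoidHom.ofInjective (ι_injective (K := K))).symm, fun x => ?_⟩
  have h1 := (MonoidHom.ofInjective (ι_injective (K := K))).apply_symm_apply x
  exact congrArg Subtype.val h1

theorem mem_T {T : Subgroup ↥(chevG2.group K)} (hT : T = (ι K).range) (g : GU K) : ι K g ∈ T := by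
  rw [hT]; exact ⟨_, rfl⟩

theorem core_a {T : Subgroup ↥(chevG2.group K)} (hT : T = (ι K).range) (e : T ≃* GU K)
    (he : ∀ x : T, ι K (e x) = x) [Finite K] (x : T) (hx : e x ∈ Qa K) :
    ∃ y : T, (y : ↥(chevG2.group K)) = nn 7 4 * (x : ↥(chevG2.group K)) * (nn 7 4)⁻¹ ∧ e y ∈ Qa K := by
  have h1 := map_isWa isWa_waE (⟨e x, hx⟩ : Qa K)
  refine ⟨⟨ι K ((waE ⟨e x, hx⟩ : Qa K) : GU K), mem_T hT _⟩, ?_, ?_⟩
  · show ι K _ = _
    rw [← h1]
    show nn 7 4 * ι K (e x) * _ = _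
    rw [he]
  · have h2 : e ⟨ι K ((waE ⟨e x, hx⟩ : Qa K) : GU K), mem_T hT _⟩ =
        ((waE ⟨e x, hx⟩ : Qa K) : GU K) := ι_injective (he _)
    rw [h2]
    exact (waE ⟨e x, hx⟩ : Qa K).2

theorem core_b {T : Subgroup ↥(chevG2.group K)} (hT : T = (ι K).range) (e : T ≃* GU K)
    (he : ∀ x : T, ι K (e x) = x) [Finite K] :
    ∃ x y : T, e x = e5 1 ∧ e y = e2 1 ∧ (y : ↥(chevG2.group K)) = nn 7 4 * (x : ↥(chevG2.group K)) * (nn 7 4)⁻¹ := by
  refine ⟨⟨ι K (e5 1), mem_T hT _⟩, ⟨ι K (e2 1), mem_T hT _⟩, ι_injective (he _),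
    ι_injective (he _), ?_⟩
  have h1 := map_isWa isWa_waE (⟨e5 1, rfl⟩ : Qa K)
  show ι K (e2 1) = nn 7 4 * ι K (e5 1) * _
  refine Eq.trans ?_ h1.symm
  congr 1
  ext <;> simp [waE, e2, e5]

theorem core_c {T : Subgroup ↥(chevG2.group K)} (hT : T = (ι K).range) (e : T ≃* GU K)
    (he : ∀ x : T, ι K (e x) = x) [Finite K] :
    ∃ x y : T, e x = e6 1 ∧ e y = e5 (-1) ∧ (y : ↥(chevG2.group K)) = nn 6 5 * (x : ↥(chevG2.group K)) * (nn 6 5)⁻¹ := by
  refine ⟨⟨ι K (e6 1), mem_T hT _⟩, ⟨ι K (e5 (-1)), mem_T hT _⟩, ι_injective (he _),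
    ι_injective (he _), ?_⟩
  have h1 := map_isWb isWb_wbE (⟨e6 1, rfl⟩ : Qb K)
  show ι K (e5 (-1)) = nn 6 5 * ι K (e6 1) * _
  refine Eq.trans ?_ h1.symm
  congr 1
  ext <;> simp [wbE, e5, e6]

theorem core_d {T : Subgroup ↥(chevG2.group K)} (hT : T = (ι K).range) (e : T ≃* GU K)
    (he : ∀ x : T, ι K (e x) = x) : ((Qa K).comap e.toMonoidHom).map T.subtype = (Qa K).map (ι K) := by
  ext g
  constructor
  · rintro ⟨x, hx, rfl⟩
    exact ⟨e x, hx, he x⟩
  · rintro ⟨x, hx, rfl⟩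
    have h0 : ι K x ∈ T := by rw [hT]; exact ⟨_, rfl⟩
    obtain ⟨y, hy⟩ := e.surjective x
    refine ⟨y, ?_, ?_⟩
    · show e y ∈ Qa K
      rw [hy]; exact hx
    · rw [← hy]; exact (he y).symm

theorem three_dvd [Finite K] : 3 ∣ (Subgroup.centralizer ((Qa K).map (ι K) : Set ↥(chevG2.group K))).relIndex
    (Subgroup.normalizer ((Qa K).map (ι K) : Set ↥(chevG2.group K))) := by
  have hfinG : Finite ↥(chevG2.group K) := by
    have : Finite (GL chevG2.Idx K) := inferInstance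
    infer_instance
  set N := Subgroup.normalizer ((Qa K).map (ι K) : Set ↥(chevG2.group K)) with hN
  set C := Subgroup.centralizer ((Qa K).map (ι K) : Set ↥(chevG2.group K)) with hC
  have hyN : yy ∈ N := by
    apply Subgroup.mem_normalizer_fintype
    rintro _ ⟨x, hx, rfl⟩
    obtain ⟨y, hy, -⟩ := yy_conj (⟨x, hx⟩ : Qa K)
    exact ⟨y, y.2, hy.symm⟩
  have hyC : yy ∉ C := by
    intro h
    have h1 := Subgroup.mem_centralizer_iff.1 h (ι _ (e5 1)) ⟨e5 1, rfl, rfl⟩
    obtain ⟨y, hy, hy'⟩ := yy_conj (⟨e5 1, rfl⟩ : Qa K)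
    have h2 : ι K (y : GU K) = ι K (e5 1) := by
      rw [← hy, mul_inv_eq_iff_eq_mul]
      exact h1.symm
    have h3 := ι_injective h2
    rw [hy' rfl] at h3
    exact one_ne_zero (congrArg GU.b h3)
  have hnorm : (C.subgroupOf N).Normal := Subgroup.normal_subgroupOf_of_le_normalizer (by
    intro n hn
    rw [Subgroup.mem_normalizer_iff]
    intro c
    have key : ∀ n ∈ N, ∀ c ∈ C, n * c * n⁻¹ ∈ C := by
      intro n hn c hc
      rw [hC, Subgroup.mem_centralizer_iff] at hc ⊢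
      intro x hx
      have h1 : n⁻¹ * x * n ∈ ((Qa K).map (ι K) : Set ↥(chevG2.group K)) := by
        have := (Subgroup.inv_mem _ hn) x
        rw [inv_inv] at this
        exact this.1 hx
      have h2 := hc _ h1
      calc x * (n * c * n⁻¹) = n * ((n⁻¹ * x * n) * c) * n⁻¹ := by group
        _ = n * (c * (n⁻¹ * x * n)) * n⁻¹ := by rw [h2]
        _ = n * c * n⁻¹ * x := by group
    constructor
    · exact key n hn c
    · intro h
      have := key n⁻¹ (Subgroup.inv_mem _ hn) _ h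
      rwa [inv_inv, show n⁻¹ * (n * c * n⁻¹) * n = c by group] at this)
  have h1 : C.relIndex N = Nat.card (N ⧸ C.subgroupOf N) := rfl
  rw [h1]
  let y : N ⧸ C.subgroupOf N := QuotientGroup.mk ⟨yy, hyN⟩
  have h2 : orderOf y = 3 := by
    apply orderOf_eq_prime
    · show (QuotientGroup.mk (⟨yy, hyN⟩ : N) : N ⧸ C.subgroupOf N) ^ 3 = 1
      rw [← QuotientGroup.mk_pow]
      have : (⟨yy, hyN⟩ : N) ^ 3 = 1 := Subtype.ext yy_pow
      rw [this]
      rfl
    · intro h
      have h3 := (QuotientGroup.eq_one_iff (N := C.subgroupOf N) (⟨yy, hyN⟩ : N)).1 h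
      exact hyC (Subgroup.mem_subgroupOf.1 h3)
  rw [← h2]
  exact orderOf_dvd_natCard y

/-- **(ROW G2)** -/
theorem rowG2 : Cfsg.Agent.H24.Q5.StRowG2 := by
  have hfinG : Finite ↥(chevG2.group (ZMod 5)) := by
    have : Finite (GL chevG2.Idx (ZMod 5)) := inferInstance
    infer_instance
  have hP : IsPGroup 5 (ι (ZMod 5)).range := by
    refine IsPGroup.of_card (n := 6) ?_
    rw [← Nat.card_congr (MonoidHom.ofInjective (ι_injective (K := ZMod 5))).toEquiv, GU.card_eq]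
    simp
  obtain ⟨e, he⟩ := exists_e (K := ZMod 5)
  let T : Sylow 5 ↥(chevG2.group (ZMod 5)) := hP.toSylow not_dvd_index
  obtain ⟨x1, y1, hx1, hy1, hxy1⟩ := core_b (K := ZMod 5) rfl e he
  obtain ⟨x2, y2, hx2, hy2, hxy2⟩ := core_c (K := ZMod 5) rfl e he
  have h10 : (1 : ZMod 5) ≠ 0 := one_ne_zero
  have ha := core_a (K := ZMod 5) rfl e he
  have z1 : e x1 ∈ Z2 (ZMod 5) := by rw [hx1]; exact ⟨rfl, rfl, rfl, rfl⟩
  have z2 : e y1 ∉ Z2 (ZMod 5) := by
    rw [hy1]
    rintro ⟨-, h, -⟩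
    exact h10 h
  have z3 : e x1 ∈ Z3 (ZMod 5) := by rw [hx1]; exact ⟨rfl, rfl, rfl⟩
  have z4 : e y1 ∉ Z3 (ZMod 5) := by
    rw [hy1]
    rintro ⟨-, h, -⟩
    exact h10 h
  have z5 : e x2 ∈ Z1 (ZMod 5) := by rw [hx2]; exact ⟨rfl, rfl, rfl, rfl, rfl⟩
  have z6 : e y2 ∉ Z1 (ZMod 5) := by
    rw [hy2]
    rintro ⟨-, -, -, -, h⟩
    exact neg_ne_zero.2 h10 h
  refine ⟨_, inferInstance, hfinG, T, e, ⟨⟨nn 7 4, ha, x1, y1, z1, hxy1, z2⟩, ⟨nn 7 4, ha, x1, y1, z3, hxy1, z4⟩,
    ⟨nn 6 5, x2, y2, z5, hxy2, z6⟩⟩, ?_⟩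
  · have hQG : Cfsg.Agent.H24.Q5.QG T e = (Qa (ZMod 5)).map (ι (ZMod 5)) := core_d (K := ZMod 5) rfl e he
    unfold Cfsg.Agent.H24.Q5.autN
    rw [hQG]
    refine ⟨three_dvd, ?_, ?_⟩
    · intro h9
      obtain ⟨k, hk1, hk2, hk3⟩ := normalizer_a (K := ZMod 5)
      rw [Nat.card_zmod] at hk2 hk3
      have h1 := (h9.trans (Subgroup.relIndex_dvd_card _ _)).trans hk3
      have h2 : 9 ∣ k := Nat.Coprime.dvd_of_dvd_mul_left (by norm_num) h1
      have := Nat.le_of_dvd (by omega) h2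
      omega
    · intro h128
      have h1 := (h128.trans (Subgroup.relIndex_dvd_card _ _)).trans (Subgroup.card_subgroup_dvd_card _)
      have hG : Nat.card ↥(chevG2.group (ZMod 5)) = 5 ^ 6 * (5 ^ 2 - 1) * (5 ^ 6 - 1) :=
        Cfsg.Agent.S1059.result (F := ZMod 5) (by simp)
      rw [hG] at h1
      exact absurd h1 (by norm_num)

end Cfsg.Agent.H650.GR
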