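import Cfsg.Agent.H650.GU.Grp

/-!
# S5211: the standard subgroups of `GU F` (helper650)

`Z1 = X4 < Z2 = X2 X4 < Z3 = X2 X3 X4 < M = X2 X3 X4 X5 = Q1 ⊓ Q2`, `Q1 = X2 ⋯ X6`, `Q2 = X1 ⋯ X5`; orders, normality,
conjugation formulas, centralizers.
-/

set_option autoImplicit false
set_option linter.unusedSimpArgs false

namespace Cfsg.Agent.H650.G

universe u

namespace GU

variable {F : Type u} [CommRing F]

/-- `Q1 = X2 X3 X5 X6 X4`, order `q⁵` -/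
def Q1 (F : Type u) [CommRing F] : Subgroup (GU F) where
  carrier := {x | x.r = 0}
  mul_mem' := by
    intro x y hx hy
    have hx : x.r = 0 := hx
    have hy : y.r = 0 := hy
    change (x * y).r = 0
    rw [mul_r, hx, hy, add_zero]
  one_mem' := rfl
  inv_mem' := by
    intro x hx
    have hx : x.r = 0 := hx
    change (x⁻¹).r = 0
    rw [inv_r, hx, neg_zero]

/-- `Q2 = X1 X2 X3 X5 X4`, order `q⁵` -/
def Q2 (F : Type u) [CommRing F] : Subgroup (GU F) where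
  carrier := {x | x.e = 0}
  mul_mem' := by
    intro x y hx hy
    have hx : x.e = 0 := hx
    have hy : y.e = 0 := hy
    change (x * y).e = 0
    rw [mul_e, hx, hy, add_zero]
  one_mem' := rfl
  inv_mem' := by
    intro x hx
    have hx : x.e = 0 := hx
    change (x⁻¹).e = 0
    rw [inv_e, hx, neg_zero]

/-- `M = X2 X3 X5 X4 = Q1 ⊓ Q2`, order `q⁴` -/
def M (F : Type u) [CommRing F] : Subgroup (GU F) := Q1 F ⊓ Q2 F

/-- `Z3 = X2 X3 X4`, order `q³` -/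
def Z3 (F : Type u) [CommRing F] : Subgroup (GU F) where
  carrier := {x | x.r = 0 ∧ x.e = 0 ∧ x.d = 0}
  mul_mem' := by
    rintro x y ⟨h1, h2, h3⟩ ⟨k1, k2, k3⟩
    refine ⟨?_, ?_, ?_⟩
    · rw [mul_r, h1, k1, add_zero]
    · rw [mul_e, h2, k2, add_zero]
    · rw [mul_d, h2, h3, k3]; ring
  one_mem' := ⟨rfl, rfl, rfl⟩
  inv_mem' := by
    rintro x ⟨h1, h2, h3⟩
    refine ⟨?_, ?_, ?_⟩
    · rw [inv_r, h1, neg_zero]
    · rw [inv_e, h2, neg_zero]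
    · rw [inv_d, h2, h3]; ring

/-- `Z2 = X2 X4`, order `q²` -/
def Z2 (F : Type u) [CommRing F] : Subgroup (GU F) where
  carrier := {x | x.r = 0 ∧ x.e = 0 ∧ x.d = 0 ∧ x.c = 0}
  mul_mem' := by
    rintro x y ⟨h1, h2, h3, h4⟩ ⟨k1, k2, k3, k4⟩
    refine ⟨?_, ?_, ?_, ?_⟩
    · rw [mul_r, h1, k1, add_zero]
    · rw [mul_e, h2, k2, add_zero]
    · rw [mul_d, h2, h3, k3]; ring
    · rw [mul_c, h2, h3, h4, k4]; ring
  one_mem' := ⟨rfl, rfl, rfl, rfl⟩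
  inv_mem' := by
    rintro x ⟨h1, h2, h3, h4⟩
    refine ⟨?_, ?_, ?_, ?_⟩
    · rw [inv_r, h1, neg_zero]
    · rw [inv_e, h2, neg_zero]
    · rw [inv_d, h2, h3]; ring
    · rw [inv_c, h2, h3, h4]; ring

/-- `Z1 = X4`, order `q` -/
def Z1 (F : Type u) [CommRing F] : Subgroup (GU F) where
  carrier := {x | x.r = 0 ∧ x.e = 0 ∧ x.d = 0 ∧ x.c = 0 ∧ x.b = 0}
  mul_mem' := by
    rintro x y ⟨h1, h2, h3, h4, h5⟩ ⟨k1, k2, k3, k4, k5⟩
    refine ⟨?_, ?_, ?_, ?_, ?_⟩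
    · rw [mul_r, h1, k1, add_zero]
    · rw [mul_e, h2, k2, add_zero]
    · rw [mul_d, h2, h3, k3]; ring
    · rw [mul_c, h2, h3, h4, k4]; ring
    · rw [mul_b, h2, h3, h4, h5, k5]; ring
  one_mem' := ⟨rfl, rfl, rfl, rfl, rfl⟩
  inv_mem' := by
    rintro x ⟨h1, h2, h3, h4, h5⟩
    refine ⟨?_, ?_, ?_, ?_, ?_⟩
    · rw [inv_r, h1, neg_zero]
    · rw [inv_e, h2, neg_zero]
    · rw [inv_d, h2, h3]; ring
    · rw [inv_c, h2, h3, h4]; ring
    · rw [inv_b, h2, h3, h4, h5]; ring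

theorem mem_Q1 {x : GU F} : x ∈ Q1 F ↔ x.r = 0 := Iff.rfl
theorem mem_Q2 {x : GU F} : x ∈ Q2 F ↔ x.e = 0 := Iff.rfl
theorem mem_M {x : GU F} : x ∈ M F ↔ x.r = 0 ∧ x.e = 0 := Iff.rfl
theorem mem_Z3 {x : GU F} : x ∈ Z3 F ↔ x.r = 0 ∧ x.e = 0 ∧ x.d = 0 := Iff.rfl
theorem mem_Z2 {x : GU F} : x ∈ Z2 F ↔ x.r = 0 ∧ x.e = 0 ∧ x.d = 0 ∧ x.c = 0 := Iff.rfl
theorem mem_Z1 {x : GU F} : x ∈ Z1 F ↔ x.r = 0 ∧ x.e = 0 ∧ x.d = 0 ∧ x.c = 0 ∧ x.b = 0 := Iff.rfl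

theorem Z1_le : Z1 F ≤ Z2 F := fun _ h => ⟨h.1, h.2.1, h.2.2.1, h.2.2.2.1⟩
theorem Z2_le : Z2 F ≤ Z3 F := fun _ h => ⟨h.1, h.2.1, h.2.2.1⟩
theorem Z3_le : Z3 F ≤ M F := fun _ h => ⟨h.1, h.2.1⟩
theorem M_le1 : M F ≤ Q1 F := inf_le_left
theorem M_le2 : M F ≤ Q2 F := inf_le_right

/-! ### Orders -/

theorem card_Q1 : Nat.card (Q1 F) = Nat.card F ^ 5 := by
  have e : Q1 F ≃ F × F × F × F × F :=
    { toFun := fun x => (x.1.b, x.1.c, x.1.d, x.1.e, x.1.z)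
      invFun := fun t => ⟨⟨0, t.1, t.2.1, t.2.2.1, t.2.2.2.1, t.2.2.2.2⟩, rfl⟩
      left_inv := by
        rintro ⟨⟨r, b, c, d, e, z⟩, h⟩
        obtain rfl : r = 0 := h
        rfl
      right_inv := fun _ => rfl }
  rw [Nat.card_congr e]
  simp only [Nat.card_prod]
  ring

theorem card_Q2 : Nat.card (Q2 F) = Nat.card F ^ 5 := by
  have e : Q2 F ≃ F × F × F × F × F :=
    { toFun := fun x => (x.1.r, x.1.b, x.1.c, x.1.d, x.1.z)
      invFun := fun t => ⟨⟨t.1, t.2.1, t.2.2.1, t.2.2.2.1, 0, t.2.2.2.2⟩, rfl⟩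
      left_inv := by
        rintro ⟨⟨r, b, c, d, e, z⟩, h⟩
        obtain rfl : e = 0 := h
        rfl
      right_inv := fun _ => rfl }
  rw [Nat.card_congr e]
  simp only [Nat.card_prod]
  ring

theorem card_M : Nat.card (M F) = Nat.card F ^ 4 := by
  have e : M F ≃ F × F × F × F :=
    { toFun := fun x => (x.1.b, x.1.c, x.1.d, x.1.z)
      invFun := fun t => ⟨⟨0, t.1, t.2.1, t.2.2.1, 0, t.2.2.2⟩, rfl, rfl⟩
      left_inv := by
        rintro ⟨⟨r, b, c, d, e, z⟩, h⟩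
        obtain rfl : r = 0 := h.1
        obtain rfl : e = 0 := h.2
        rfl
      right_inv := fun _ => rfl }
  rw [Nat.card_congr e]
  simp only [Nat.card_prod]
  ring

theorem card_Z3 : Nat.card (Z3 F) = Nat.card F ^ 3 := by
  have e : Z3 F ≃ F × F × F :=
    { toFun := fun x => (x.1.b, x.1.c, x.1.z)
      invFun := fun t => ⟨⟨0, t.1, t.2.1, 0, 0, t.2.2⟩, rfl, rfl, rfl⟩
      left_inv := by
        rintro ⟨⟨r, b, c, d, e, z⟩, h⟩
        obtain rfl : r = 0 := h.1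
        obtain rfl : e = 0 := h.2.1
        obtain rfl : d = 0 := h.2.2
        rfl
      right_inv := fun _ => rfl }
  rw [Nat.card_congr e]
  simp only [Nat.card_prod]
  ring

theorem card_Z2 : Nat.card (Z2 F) = Nat.card F ^ 2 := by
  have e : Z2 F ≃ F × F :=
    { toFun := fun x => (x.1.b, x.1.z)
      invFun := fun t => ⟨⟨0, t.1, 0, 0, 0, t.2⟩, rfl, rfl, rfl, rfl⟩
      left_inv := by
        rintro ⟨⟨r, b, c, d, e, z⟩, h⟩
        obtain rfl : r = 0 := h.1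
        obtain rfl : e = 0 := h.2.1
        obtain rfl : d = 0 := h.2.2.1
        obtain rfl : c = 0 := h.2.2.2
        rfl
      right_inv := fun _ => rfl }
  rw [Nat.card_congr e]
  simp only [Nat.card_prod]
  ring

theorem card_Z1 : Nat.card (Z1 F) = Nat.card F := by
  have e : Z1 F ≃ F :=
    { toFun := fun x => x.1.z
      invFun := fun t => ⟨⟨0, 0, 0, 0, 0, t⟩, rfl, rfl, rfl, rfl, rfl⟩
      left_inv := by
        rintro ⟨⟨r, b, c, d, e, z⟩, h⟩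
        obtain rfl : r = 0 := h.1
        obtain rfl : e = 0 := h.2.1
        obtain rfl : d = 0 := h.2.2.1
        obtain rfl : c = 0 := h.2.2.2.1
        obtain rfl : b = 0 := h.2.2.2.2
        rfl
      right_inv := fun _ => rfl }
  rw [Nat.card_congr e]

/-! ### Homomorphisms -/

/-- the first coordinate, kernel `Q1` -/
def hom1 (F : Type u) [CommRing F] : GU F →* Multiplicative F where
  toFun x := Multiplicative.ofAdd x.r
  map_one' := rfl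
  map_mul' _ _ := rfl

/-- the sixth coordinate, kernel `Q2` -/
def hom6 (F : Type u) [CommRing F] : GU F →* Multiplicative F where
  toFun x := Multiplicative.ofAdd x.e
  map_one' := rfl
  map_mul' _ _ := rfl

theorem ker_hom1 : (hom1 F).ker = Q1 F := by
  ext x
  rw [MonoidHom.mem_ker, mem_Q1]
  exact Iff.rfl

theorem ker_hom6 : (hom6 F).ker = Q2 F := by
  ext x
  rw [MonoidHom.mem_ker, mem_Q2]
  exact Iff.rfl

instance : (Q1 F).Normal := by rw [← ker_hom1]; infer_instance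
instance : (Q2 F).Normal := by rw [← ker_hom6]; infer_instance
instance : (M F).Normal := by unfold M; infer_instance

/-! ### Conjugation formulas -/

/-- `x y x⁻¹` for `y ∈ Q1` -/
theorem conj_Q1 (x : GU F) {y : GU F} (hy : y ∈ Q1 F) : x * y * x⁻¹ =
    ⟨0, y.b + 3 * x.r * y.c + 3 * x.r ^ 2 * y.d - x.r ^ 3 * y.e, y.c + 2 * x.r * y.d - x.r ^ 2 * y.e,
      y.d - x.r * y.e, y.e,
      y.z - 3 * x.r * y.d ^ 2 + 3 * x.r ^ 2 * y.e * y.d - x.r ^ 3 * y.e ^ 2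
        - x.e * y.b - 3 * x.d * y.c + 3 * y.d * x.c + y.e * x.b⟩ := by
  have h : y.r = 0 := hy
  ext
  · simp [h]
  all_goals
    simp only [mul_r, mul_b, mul_c, mul_d, mul_e, mul_z, inv_r, inv_b, inv_c, inv_d, inv_e, inv_z, h]
    ring

/-- `x y x⁻¹` for `y ∈ M` -/
theorem conj_M (x : GU F) {y : GU F} (hy : y ∈ M F) : x * y * x⁻¹ =
    ⟨0, y.b + 3 * x.r * y.c + 3 * x.r ^ 2 * y.d, y.c + 2 * x.r * y.d, y.d, 0,
      y.z - 3 * x.r * y.d ^ 2 - x.e * y.b - 3 * x.d * y.c + 3 * y.d * x.c⟩ := by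
  rw [conj_Q1 x hy.1]
  have h : y.e = 0 := hy.2
  ext <;> simp [h]

/-- `x y x⁻¹` for `y ∈ Z3` -/
theorem conj_Z3 (x : GU F) {y : GU F} (hy : y ∈ Z3 F) : x * y * x⁻¹ =
    ⟨0, y.b + 3 * x.r * y.c, y.c, 0, 0, y.z - x.e * y.b - 3 * x.d * y.c⟩ := by
  rw [conj_M x (Z3_le hy)]
  have h : y.d = 0 := hy.2.2
  ext <;> simp [h]

/-- `x y x⁻¹` for `y ∈ Z2` -/
theorem conj_Z2 (x : GU F) {y : GU F} (hy : y ∈ Z2 F) : x * y * x⁻¹ = ⟨0, y.b, 0, 0, 0, y.z - x.e * y.b⟩ := by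
  rw [conj_Z3 x (Z2_le hy)]
  have h : y.c = 0 := hy.2.2.2
  ext <;> simp [h]

theorem conj_Z1 (x : GU F) {y : GU F} (hy : y ∈ Z1 F) : x * y * x⁻¹ = y := by
  rw [conj_Z2 x (Z1_le hy)]
  obtain ⟨h1, h2, h3, h4, h5⟩ := hy
  ext <;> simp [h1, h2, h3, h4, h5]

instance : (Z3 F).Normal := ⟨fun y hy x => by rw [conj_Z3 x hy]; exact ⟨rfl, rfl, rfl⟩⟩
instance : (Z2 F).Normal := ⟨fun y hy x => by rw [conj_Z2 x hy]; exact ⟨rfl, rfl, rfl, rfl⟩⟩
instance : (Z1 F).Normal := ⟨fun y hy x => by rw [conj_Z1 x hy]; exact hy⟩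

/-- `x y x⁻¹ y⁻¹` for `y ∈ M` -/
theorem comm_M (x : GU F) {y : GU F} (hy : y ∈ M F) : x * y * x⁻¹ * y⁻¹ =
    ⟨0, 3 * x.r * y.c + 3 * x.r ^ 2 * y.d, 2 * x.r * y.d, 0, 0,
      -(3 * x.r * y.d ^ 2) - x.e * y.b - 3 * x.d * y.c + 3 * y.d * x.c⟩ := by
  rw [conj_M x hy]
  obtain ⟨h1, h2⟩ := hy
  have h1 : y.r = 0 := h1
  have h2 : y.e = 0 := h2
  ext <;> simp only [mul_r, mul_b, mul_c, mul_d, mul_e, mul_z, inv_r, inv_b, inv_c, inv_d, inv_e, inv_z, h1, h2] <;>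
    ring

theorem comm_Z3 (x : GU F) {y : GU F} (hy : y ∈ Z3 F) : x * y * x⁻¹ * y⁻¹ =
    ⟨0, 3 * x.r * y.c, 0, 0, 0, - x.e * y.b - 3 * x.d * y.c⟩ := by
  rw [comm_M x (Z3_le hy)]
  have h : y.d = 0 := hy.2.2
  ext <;> simp [h]

theorem comm_Z2 (x : GU F) {y : GU F} (hy : y ∈ Z2 F) : x * y * x⁻¹ * y⁻¹ = ⟨0, 0, 0, 0, 0, - x.e * y.b⟩ := by
  rw [comm_Z3 x (Z2_le hy)]
  have h : y.c = 0 := hy.2.2.2
  ext <;> simp [h]

/-- `x y x⁻¹ y⁻¹` for `x, y ∈ Q1` : the symplectic form -/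
theorem comm_Q1 {x y : GU F} (hx : x ∈ Q1 F) (hy : y ∈ Q1 F) : x * y * x⁻¹ * y⁻¹ =
    ⟨0, 0, 0, 0, 0, y.e * x.b - x.e * y.b + 3 * (x.c * y.d - x.d * y.c)⟩ := by
  rw [conj_Q1 x hy]
  have h1 : x.r = 0 := hx
  have h2 : y.r = 0 := hy
  ext <;> simp only [mul_r, mul_b, mul_c, mul_d, mul_e, mul_z, inv_r, inv_b, inv_c, inv_d, inv_e, inv_z, h1, h2] <;>
    ring

/-- `x y x⁻¹` for `y ∈ Q2` -/
theorem conj_Q2 (x : GU F) {y : GU F} (hy : y ∈ Q2 F) : x * y * x⁻¹ =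
    ⟨y.r, y.b + 3 * x.r * y.c - 3 * y.r * x.c + 3 * x.r ^ 2 * y.d + 3 * y.r ^ 2 * x.d
        + x.e * y.r ^ 3 - 3 * x.r * x.e * y.r ^ 2 + 3 * x.r ^ 2 * x.e * y.r - 6 * x.r * y.r * x.d,
      y.c + 2 * x.r * y.d - 2 * y.r * x.d + 2 * x.r * x.e * y.r - x.e * y.r ^ 2, y.d + x.e * y.r, 0,
      y.z + (x * y * x⁻¹).z - y.z⟩ := by
  have h : y.e = 0 := hy
  ext
  · simp
  all_goals
    simp only [mul_r, mul_b, mul_c, mul_d, mul_e, mul_z, inv_r, inv_b, inv_c, inv_d, inv_e, inv_z, h]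
    ring

/-! ### Centralizers in `GU F`, elementwise -/

section field

variable {F : Type u} [Field F]

theorem comm_eq_one {x y : GU F} (h : x * y = y * x) : x * y * x⁻¹ * y⁻¹ = 1 := by
  rw [h]; group

theorem eq_of_comm {x y : GU F} (h : x * y * x⁻¹ * y⁻¹ = 1) : x * y = y * x := by
  have : x * y = (x * y * x⁻¹ * y⁻¹) * (y * x) := by group
  rw [this, h, one_mul]

/-- `C_S(Z2) = Q2` -/
theorem cent_Z2 {x : GU F} : (∀ y ∈ Z2 F, x * y = y * x) ↔ x ∈ Q2 F := by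
  constructor
  · intro h
    have h1 := comm_eq_one (h (x2 1) ⟨rfl, rfl, rfl, rfl⟩)
    rw [comm_Z2 x (y := x2 1) ⟨rfl, rfl, rfl, rfl⟩] at h1
    have h2 := congrArg GU.z h1
    change - x.e * 1 = 0 at h2
    rw [mem_Q2]
    linear_combination - h2
  · intro hx y hy
    refine eq_of_comm ?_
    rw [comm_Z2 x hy, show x.e = 0 from hx]
    ext <;> simp

/-- `C_S(Z3) = Z3`, `p ≠ 3` -/
theorem cent_Z3 (h3 : (3 : F) ≠ 0) {x : GU F} : (∀ y ∈ Z3 F, x * y = y * x) ↔ x ∈ Z3 F := by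
  constructor
  · intro h
    have he : x.e = 0 := cent_Z2.1 fun y hy => h y (Z2_le hy)
    have h1 := comm_eq_one (h (x3 1) ⟨rfl, rfl, rfl⟩)
    rw [comm_Z3 x (y := x3 1) ⟨rfl, rfl, rfl⟩] at h1
    have h2 := congrArg GU.z h1
    have k2 := congrArg GU.b h1
    change - x.e * 0 - 3 * x.d * 1 = 0 at h2
    change 3 * x.r * 1 = 0 at k2
    refine ⟨?_, he, ?_⟩
    · exact (mul_eq_zero.1 (show 3 * x.r = 0 by linear_combination k2)).resolve_left h3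
    · exact (mul_eq_zero.1 (show 3 * x.d = 0 by linear_combination - h2)).resolve_left h3
  · rintro ⟨h1, h2, h4⟩ y hy
    refine eq_of_comm ?_
    rw [comm_Z3 x hy, h1, h2, h4]
    ext <;> simp

/-- `C_S(Z3) = Q2`, `p = 3` -/
theorem cent_Z3' (h3 : (3 : F) = 0) {x : GU F} : (∀ y ∈ Z3 F, x * y = y * x) ↔ x ∈ Q2 F := by
  constructor
  · intro h
    exact cent_Z2.1 fun y hy => h y (Z2_le hy)
  · intro h y hy
    refine eq_of_comm ?_
    rw [comm_Z3 x hy, show x.e = 0 from h, h3]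
    ext <;> simp

/-- `C_S(M) = Z2`, `p ≠ 3` -/
theorem cent_M (h3 : (3 : F) ≠ 0) {x : GU F} : (∀ y ∈ M F, x * y = y * x) ↔ x ∈ Z2 F := by
  constructor
  · intro h
    obtain ⟨hr, he, hd⟩ := (cent_Z3 h3).1 fun y hy => h y (Z3_le hy)
    have h1 := comm_eq_one (h (x5 1) ⟨rfl, rfl⟩)
    rw [comm_M x (y := x5 1) ⟨rfl, rfl⟩] at h1
    have h2 := congrArg GU.z h1
    change -(3 * x.r * 1 ^ 2) - x.e * 0 - 3 * x.d * 0 + 3 * 1 * x.c = 0 at h2
    refine ⟨hr, he, hd, ?_⟩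
    exact (mul_eq_zero.1 (show 3 * x.c = 0 by rw [hr] at h2; linear_combination h2)).resolve_left h3
  · rintro ⟨h1, h2, h4, h5⟩ y hy
    refine eq_of_comm ?_
    rw [comm_M x hy, h1, h2, h4, h5]
    ext <;> simp

/-- `C_S(M) = M`, `p = 3` -/
theorem cent_M' (h3 : (3 : F) = 0) {x : GU F} : (∀ y ∈ M F, x * y = y * x) ↔ x ∈ M F := by
  have h2 : (2 : F) ≠ 0 := fun h => one_ne_zero (α := F) (by linear_combination h3 - h)
  constructor
  · intro h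
    have he : x.e = 0 := cent_Z2.1 fun y hy => h y (Z3_le (Z2_le hy))
    have h1 := comm_eq_one (h (x5 1) ⟨rfl, rfl⟩)
    rw [comm_M x (y := x5 1) ⟨rfl, rfl⟩] at h1
    have k2 := congrArg GU.c h1
    change 2 * x.r * 1 = 0 at k2
    exact ⟨(mul_eq_zero.1 (show 2 * x.r = 0 by linear_combination k2)).resolve_left h2, he⟩
  · rintro ⟨h1, h2⟩ y hy
    refine eq_of_comm ?_
    rw [comm_M x hy, show x.r = 0 from h1, show x.e = 0 from h2, h3]
    ext <;> simp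

/-- `C_S(Q1) = Z1`, `p ≠ 3` -/
theorem cent_Q1 (h3 : (3 : F) ≠ 0) {x : GU F} : (∀ y ∈ Q1 F, x * y = y * x) ↔ x ∈ Z1 F := by
  constructor
  · intro h
    obtain ⟨hr, he, hd, hc⟩ := (cent_M h3).1 fun y hy => h y (M_le1 hy)
    have h1 := comm_eq_one (h (x6 1) rfl)
    rw [comm_Q1 (x := x) hr (y := x6 1) rfl] at h1
    have h2 := congrArg GU.z h1
    change 1 * x.b - x.e * 0 + 3 * (x.c * 0 - x.d * 0) = 0 at h2
    exact ⟨hr, he, hd, hc, by linear_combination h2⟩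
  · rintro ⟨h1, h2, h4, h5, h6⟩ y hy
    refine eq_of_comm ?_
    rw [comm_Q1 h1 hy, h2, h4, h5, h6]
    ext <;> simp

/-- `C_S(Q1) = X3 X5 X4`, `p = 3` -/
theorem cent_Q1' (h3 : (3 : F) = 0) {x : GU F} :
    (∀ y ∈ Q1 F, x * y = y * x) ↔ x.r = 0 ∧ x.b = 0 ∧ x.e = 0 := by
  constructor
  · intro h
    obtain ⟨hr, he⟩ := (cent_M' h3).1 fun y hy => h y (M_le1 hy)
    have h1 := comm_eq_one (h (x6 1) rfl)
    rw [comm_Q1 (x := x) hr (y := x6 1) rfl] at h1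
    have h2 := congrArg GU.z h1
    change 1 * x.b - x.e * 0 + 3 * (x.c * 0 - x.d * 0) = 0 at h2
    exact ⟨hr, by linear_combination h2, he⟩
  · rintro ⟨h1, h2, h4⟩ y hy
    refine eq_of_comm ?_
    rw [comm_Q1 h1 hy, h2, h4, h3]
    ext <;> simp

/-- the centre, `p ≠ 3` -/
theorem center_eq (h3 : (3 : F) ≠ 0) : Subgroup.center (GU F) = Z1 F := by
  ext x
  rw [Subgroup.mem_center_iff]
  constructor
  · intro h
    exact (cent_Q1 h3).1 fun y _ => (h y).symm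
  · intro hx y
    have := conj_Z1 y hx
    calc y * x = (y * x * y⁻¹) * y := by group
      _ = x * y := by rw [this]

/-- the centre, `p = 3` -/
theorem center_eq' (h3 : (3 : F) = 0) {x : GU F} :
    x ∈ Subgroup.center (GU F) ↔ x.r = 0 ∧ x.b = 0 ∧ x.e = 0 ∧ x.d = 0 := by
  have h2 : (2 : F) ≠ 0 := fun h => one_ne_zero (α := F) (by linear_combination h3 - h)
  rw [Subgroup.mem_center_iff]
  constructor
  · intro h
    obtain ⟨h1, h4, h5⟩ := (cent_Q1' h3).1 fun y _ => (h y).symm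
    have k1 := congrArg GU.c (h (x1 1))
    simp only [mul_c, x1, h1, h5] at k1
    refine ⟨h1, h4, h5, ?_⟩
    refine (mul_eq_zero.1 (show 2 * x.d = 0 by linear_combination k1)).resolve_left h2
  · rintro ⟨h1, h4, h5, h6⟩ y
    ext
    · simp only [mul_r]; ring
    · simp only [mul_b, h1, h4, h5, h6, h3]; ring
    · simp only [mul_c, h1, h4, h5, h6, h3]; ring
    · simp only [mul_d, h1, h4, h5, h6, h3]; ring
    · simp only [mul_e]; ring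
    · simp only [mul_z, h1, h4, h5, h6, h3]; ring

end field

end GU

end Cfsg.Agent.H650.G
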