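import Cfsg.Agent.H650.GU.Grp
import Cfsg.Agent.H650.GU.Rel
import Cfsg.Agent.Hexagon.G2End
import Cfsg.Agent.H638.G2Iso
import Cfsg.Agent.S1027
import Cfsg.Agent.S1059

/-!
# S5211: the Sylow `p`-subgroups of `G₂(pⁿ)` are isomorphic to `GU` (helper650)
-/

set_option autoImplicit false

namespace Cfsg.Agent.H650.G

open Cfsg.Lie Cfsg.Agent.SplitTwo Cfsg.Agent.ChevalleyStructure.Elts
open Cfsg.Agent.Hexagon.G2Pos Cfsg.Agent.Hexagon.G2Side

universe u

section rel

variable {F : Type u} [Field F] {G : Type*} [Group G] {x1 x2 x3 x4 x5 x6 : F → G}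

instance : Fact (∀ a : F, (RingEquiv.refl F) ((RingEquiv.refl F) ((RingEquiv.refl F) a)) = a) := ⟨fun _ => rfl⟩

/-- The homomorphism `GU F → G` from the positive relations. -/
def relHom (h : HexRel (RingEquiv.refl F) x1 x2 x3 x4 x5 x6) : GU F →* G where
  toFun x := x1 x.r * Rel.hh x2 x3 x4 x5 x6 x.b x.c x.d x.e x.z
  map_one' := by
    change x1 0 * Rel.hh x2 x3 x4 x5 x6 0 0 0 0 0 = 1
    unfold Rel.hh
    rw [Rel.x1_zero h, Rel.x2_zero h, Rel.x3_zero h, Rel.x4_zero h, Rel.x5_zero h, Rel.x6_zero h]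
    simp
  map_mul' x y := by
    have f : ∀ a : F, (RingEquiv.refl F) a = a := fun _ => rfl
    have e1 := Rel.hh_x1 h (b := x.b) (c := x.c) (d := x.d) (e := x.e) (z := x.z) (f _) (f _) (f _) y.r
    have e2 := Rel.hh_mul h (b := x.b - trc (RingEquiv.refl F) y.r x.c + trc (RingEquiv.refl F) (shp (RingEquiv.refl F) y.r) x.d
        + x.e * nrm (RingEquiv.refl F) y.r) (c := x.c - crs (RingEquiv.refl F) y.r x.d - x.e * shp (RingEquiv.refl F) y.r)
      (d := x.d + x.e * y.r) (e := x.e) (z := x.z + trc (RingEquiv.refl F) y.r (shp (RingEquiv.refl F) x.d)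
        + x.e * trc (RingEquiv.refl F) (shp (RingEquiv.refl F) y.r) x.d + x.e ^ 2 * nrm (RingEquiv.refl F) y.r)
      (b' := y.b) (c' := y.c) (d' := y.d) (e' := y.e) (z' := y.z) (f _) (f _) (f _) (f _) (f _) (f _)
    have e3 : x1 x.r * Rel.hh x2 x3 x4 x5 x6 x.b x.c x.d x.e x.z * (x1 y.r * Rel.hh x2 x3 x4 x5 x6 y.b y.c y.d y.e y.z)
        = x1 x.r * (Rel.hh x2 x3 x4 x5 x6 x.b x.c x.d x.e x.z * x1 y.r) * Rel.hh x2 x3 x4 x5 x6 y.b y.c y.d y.e y.z := by
      group
    rw [e3, e1]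
    have e4 : ∀ a b c d : G, a * (b * c) * d = (a * b) * (c * d) := fun a b c d => by group
    rw [e4, e2, ← h.add1]
    have k1 : ∀ a b : F, trc (RingEquiv.refl F) a b = 3 * a * b := fun a b => by
      simp only [trc, RingEquiv.refl_apply]; ring
    have k2 : ∀ a : F, shp (RingEquiv.refl F) a = a ^ 2 := fun a => by
      simp only [shp, RingEquiv.refl_apply]; ring
    have k3 : ∀ a : F, nrm (RingEquiv.refl F) a = a ^ 3 := fun a => by
      simp only [nrm, RingEquiv.refl_apply]; ring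
    have k4 : ∀ a b : F, crs (RingEquiv.refl F) a b = 2 * a * b := fun a b => by
      simp only [crs, RingEquiv.refl_apply]; ring
    simp only [k1, k2, k3, k4]
    rw [GU.mul_r, GU.mul_b, GU.mul_c, GU.mul_d, GU.mul_e, GU.mul_z]
    congr 2
    ring

theorem relHom_apply (h : HexRel (RingEquiv.refl F) x1 x2 x3 x4 x5 x6) (x : GU F) :
    relHom h x = x1 x.r * (x2 x.b * x3 x.c * x5 x.d * x6 x.e * x4 x.z) := rfl

theorem relHom_x (h : HexRel (RingEquiv.refl F) x1 x2 x3 x4 x5 x6) (t : F) :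
    relHom h (GU.x1 t) = x1 t ∧ relHom h (GU.x2 t) = x2 t ∧ relHom h (GU.x3 t) = x3 t ∧
      relHom h (GU.x4 t) = x4 t ∧ relHom h (GU.x5 t) = x5 t ∧ relHom h (GU.x6 t) = x6 t := by
  simp only [relHom_apply, GU.x1, GU.x2, GU.x3, GU.x4, GU.x5, GU.x6, Rel.x1_zero h, Rel.x2_zero h, Rel.x3_zero h,
    Rel.x4_zero h, Rel.x5_zero h, Rel.x6_zero h, one_mul, mul_one, and_self]

end rel

section chev

variable (F : Type u) [Field F]

/-- the root elements of `chevG2.group F` -/
noncomputable def toChev : GU F →* ↥(chevG2.group F) := relHom (Cfsg.Agent.Hexagon.G2End.hexPar (F := F)).rel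

variable {F}

theorem X_le_range {k : ZMod (2 * 6)} (hk : k ∈ ({1, 2, 3, 4, 5, 6} : Finset (ZMod (2 * 6)))) :
    X F k ≤ (toChev F).range := by
  have P := Cfsg.Agent.Hexagon.G2End.hexPar (F := F)
  have f : ∀ a : F, (RingEquiv.refl F) a = a := fun _ => rfl
  intro g hg
  simp only [Finset.mem_insert, Finset.mem_singleton] at hk
  rcases hk with rfl | rfl | rfl | rfl | rfl | rfl
  · obtain ⟨a, rfl⟩ := (P.mem1 _).1 hg
    exact ⟨GU.x1 a, (relHom_x P.rel a).1⟩
  · obtain ⟨a, -, rfl⟩ := (P.mem2 _).1 hg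
    exact ⟨GU.x2 a, (relHom_x P.rel a).2.1⟩
  · obtain ⟨a, rfl⟩ := (P.mem3 _).1 hg
    exact ⟨GU.x3 a, (relHom_x P.rel a).2.2.1⟩
  · obtain ⟨a, -, rfl⟩ := (P.mem4 _).1 hg
    exact ⟨GU.x4 a, (relHom_x P.rel a).2.2.2.1⟩
  · obtain ⟨a, rfl⟩ := (P.mem5 _).1 hg
    exact ⟨GU.x5 a, (relHom_x P.rel a).2.2.2.2.1⟩
  · obtain ⟨a, -, rfl⟩ := (P.mem6 _).1 hg
    exact ⟨GU.x6 a, (relHom_x P.rel a).2.2.2.2.2⟩

theorem tab_pos' : ∀ r < 12, chevG2.IsPosRoot r → ∃ k : ZMod (2 * 6),
    k ∈ ({1, 2, 3, 4, 5, 6} : Finset (ZMod (2 * 6))) ∧ tab k = r := by decide +kernel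

theorem posUnipotent_le : chevG2.posUnipotent F ≤ (toChev F).range.map (chevG2.group F).subtype := by
  unfold ChevalleyDatum.posUnipotent
  rw [Subgroup.closure_le]
  rintro g ⟨r, t, hr, hg⟩
  obtain ⟨k, hk, rfl⟩ := tab_pos' r hr.1 hr
  refine ⟨xs (tab k) t, X_le_range hk (mem_X.2 ⟨t, rfl⟩), ?_⟩
  apply Units.ext
  rw [hg]
  rfl

theorem card_range_le [Finite F] : Nat.card (toChev F).range ≤ Nat.card (GU F) :=
  Nat.card_le_card_of_surjective _ (toChev F).rangeRestrict_surjective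

theorem le_card_range [Finite F] : Nat.card F ^ 6 ≤ Nat.card (toChev F).range := by
  have := Fintype.ofFinite F
  have h1 := Cfsg.Agent.S1027.result (F := F) chevG2 (by simp)
  have h2 : chevG2.nroots / 2 = 6 := by decide +kernel
  rw [h2, ← Nat.card_eq_fintype_card] at h1
  rw [← h1, Nat.card_congr ((toChev F).range.equivMapOfInjective _ (chevG2.group F).subtype_injective).toEquiv]
  have : Finite ((toChev F).range.map (chevG2.group F).subtype) :=
    Finite.of_surjective _ ((toChev F).range.equivMapOfInjective _ (chevG2.group F).subtype_injective).surjective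
  exact Nat.card_le_card_of_injective _ (Subgroup.inclusion_injective posUnipotent_le)

theorem card_range [Finite F] : Nat.card (toChev F).range = Nat.card F ^ 6 :=
  le_antisymm (card_range_le.trans (GU.card_eq F).le) le_card_range

theorem toChev_injective [Finite F] : Function.Injective (toChev F) := by
  have h1 : Function.Bijective (toChev F).rangeRestrict := by
    rw [Nat.bijective_iff_surjective_and_card]
    exact ⟨(toChev F).rangeRestrict_surjective, by rw [card_range, GU.card_eq]⟩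
  intro x y h
  exact h1.1 (Subtype.ext h)

/-- **The Sylow `p`-subgroups of `chevG2.group F`.** -/
theorem exists_equiv_chev [Finite F] {p : ℕ} [Fact p.Prime] [CharP F p] (T : Sylow p ↥(chevG2.group F)) :
    Nonempty (T ≃* GU F) := by
  have := Fintype.ofFinite F
  have hp : p.Prime := Fact.out
  obtain ⟨n, -, hn⟩ := FiniteField.card F p
  have hq : Nat.card F = p ^ (n : ℕ) := by rw [Nat.card_eq_fintype_card, hn]
  have : Finite ↥(chevG2.group F) := by
    have : Finite (GL chevG2.Idx F) := inferInstance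
    infer_instance
  have hG : Nat.card ↥(chevG2.group F) = Nat.card F ^ 6 * (Nat.card F ^ 2 - 1) * (Nat.card F ^ 6 - 1) :=
    Cfsg.Agent.S1059.result (F := F) Nat.card_eq_fintype_card.symm
  have hn0 : (n : ℕ) ≠ 0 := n.ne_zero
  have hcop : ∀ k : ℕ, k ≠ 0 → ¬ p ∣ Nat.card F ^ k - 1 := by
    intro k hk h
    have h1 : p ∣ Nat.card F ^ k := by
      rw [hq, ← pow_mul]
      exact dvd_pow_self p (mul_ne_zero hn0 hk)
    have h2 : 1 ≤ Nat.card F ^ k := Nat.one_le_pow _ _ Nat.card_pos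
    have h3 : p ∣ 1 := (Nat.dvd_sub h1 h).trans (by rw [Nat.sub_sub_self h2])
    exact hp.one_lt.ne' (Nat.dvd_one.1 h3)
  let e1 : GU F ≃* (toChev F).range := MonoidHom.ofInjective toChev_injective
  have hP : IsPGroup p (toChev F).range := by
    refine IsPGroup.of_card (n := (n : ℕ) * 6) ?_
    rw [card_range, hq, pow_mul]
  obtain ⟨Q, hQ⟩ := hP.exists_le_sylow
  have hQc : Nat.card Q = Nat.card (toChev F).range := by
    refine Nat.dvd_antisymm ?_ (Subgroup.card_dvd_of_le hQ)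
    obtain ⟨m, hm⟩ := (IsPGroup.iff_card.1 Q.isPGroup')
    have h1 : Nat.card Q ∣ Nat.card F ^ 6 * ((Nat.card F ^ 2 - 1) * (Nat.card F ^ 6 - 1)) := by
      rw [← mul_assoc, ← hG]
      exact Subgroup.card_subgroup_dvd_card _
    rw [card_range]
    refine Nat.Coprime.dvd_of_dvd_mul_right ?_ h1
    rw [hm]
    apply Nat.Coprime.pow_left
    rw [Nat.Prime.coprime_iff_not_dvd hp, hp.dvd_mul]
    rintro (h | h)
    · exact hcop 2 (by norm_num) h
    · exact hcop 6 (by norm_num) h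
  have hQe : (Q : Subgroup ↥(chevG2.group F)) = (toChev F).range :=
    (Subgroup.eq_of_le_of_card_ge hQ hQc.le).symm
  obtain ⟨e2⟩ : Nonempty (T ≃* Q) := ⟨Sylow.equiv T Q⟩
  exact ⟨(e2.trans (MulEquiv.subgroupCongr hQe)).trans e1.symm⟩

/-- **The Sylow `p`-subgroups of `G₂(F)`.** -/
theorem exists_equiv [Finite F] {p : ℕ} [Fact p.Prime] [CharP F p] (T : Sylow p ↥(Cfsg.Lie.G2 F)) :
    Nonempty (T ≃* GU F) := by
  obtain ⟨e⟩ := Cfsg.Agent.H638.G2Iso.equiv (F := F)
  have : Finite ↥(chevG2.group F) := by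
    have : Finite (GL chevG2.Idx F) := inferInstance
    infer_instance
  have : Finite ↥(Cfsg.Lie.G2 F) := Finite.of_equiv _ e.symm.toEquiv
  let T' : Sylow p ↥(chevG2.group F) := T.mapSurjective (f := e.toMonoidHom) e.surjective
  obtain ⟨e1⟩ := exists_equiv_chev (F := F) T'
  exact ⟨((T : Subgroup ↥(Cfsg.Lie.G2 F)).equivMapOfInjective e.toMonoidHom e.injective).trans e1⟩

/-- **S5211**: `S` is isomorphic to `GU (GaloisField p n)`. -/
theorem exists_equiv_S {Ω : Type*} [Group Ω] {S : Subgroup Ω} {p n : ℕ} [Fact p.Prime]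
    (hn : n ≠ 0) (T : Sylow p ↥(Cfsg.Lie.G2 (GaloisField p n)))
    (e : ↥S ≃* ↥(T : Subgroup ↥(Cfsg.Lie.G2 (GaloisField p n)))) :
    Nonempty (S ≃* GU (GaloisField p n)) := by
  have : Finite (GaloisField p n) := by
    have h1 := GaloisField.card p n hn
    exact Nat.finite_of_card_ne_zero (by rw [h1]; exact pow_ne_zero _ (Fact.out : p.Prime).ne_zero)
  obtain ⟨e1⟩ := exists_equiv (F := GaloisField p n) (p := p) T
  exact ⟨e.trans e1⟩

end chev

end Cfsg.Agent.H650.G
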